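import Cfsg.Agent.Lib.Lie.BoundedPres.OmegaPlus.Side
import Cfsg.Agent.Lib.Char.SingleBond.TypeDParts.Fork

/-!
# The fork from one Weyl element

A homomorphism of `SL_n(F)`, an element `w` and three conditions give the two homomorphisms of a fork, the
second taking the Weyl element to `w`.
-/

set_option autoImplicit false

namespace CfsgLib.Lie.BoundedPres.OPlus

open Matrix CfsgLib.Char.SingleBond CfsgLib.Char.SingleBond.DDat

variable {F : Type*} [Field F] {G : Type*} [Group G] {m : ℕ}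

/-- the conditions on the Levi factor and the Weyl element -/
structure Ext (G : Type*) [Group G] (F : Type*) [Field F] (m : ℕ) extends WDat G F m where
  hR : w = c01 Φ w 1 * c01 (Φ.comp tIn) w 1 * c01 Φ w 1

namespace Ext

variable (E : Ext G F m)

/-- the transposed side -/
def other : WDat G F m where
  Φ := E.Φ.comp tIn
  w := E.w
  hw i j h t := by
    rw [MonoidHom.comp_apply, tIn_slX h.1]
    exact E.hw j i h.symm _
  hx i j h t := by
    rw [MonoidHom.comp_apply, tIn_slX h.1]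
    have e : c01 (E.Φ.comp tIn) E.w 1 = (c01 E.Φ E.w 1)⁻¹ * E.w * (c01 E.Φ E.w 1)⁻¹ := by
      conv_rhs => arg 1; arg 2; rw [E.hR]
      group
    rw [e]
    have hx := E.hx j i h.symm (-t)
    exact (hx.inv_right.mul_right (E.hw j i h.symm (-t))).mul_right hx.inv_right

/-- the family of the roots `e_0 + e_1` -/
def Y (t : F) : G := E.other.X (-t)
/-- the family of the roots `e_0 + e_2` -/
def Q (t : F) : G := E.other.P (-t)

theorem other_Phi (g : Matrix.SpecialLinearGroup (Fin (m + 4)) F) : E.other.Φ g = E.Φ (tIn g) := rfl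

theorem other_slX {i j : Fin (m + 4)} (h : i ≠ j) (t : F) : E.other.Φ (slX i j t) = E.Φ (slX j i (-t)) := by
  rw [other_Phi, tIn_slX h]

theorem Y_add (s t : F) : E.Y (s + t) = E.Y s * E.Y t := by rw [Y, neg_add, WDat.X_add]; rfl

theorem Q_add (s t : F) : E.Q (s + t) = E.Q s * E.Q t := by rw [Q, neg_add, WDat.P_add]; rfl

theorem Y_neg (t : F) : (E.Y t)⁻¹ = E.Y (-t) := E.other.X_neg _
theorem Q_neg (t : F) : (E.Q t)⁻¹ = E.Q (-t) := E.other.P_neg _

theorem Q_eq (t : F) : E.Q t = E.w * E.Φ (slX 2 1 (-t)) * E.w⁻¹ := by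
  rw [Q, WDat.P_def]
  show E.w * E.other.Φ (slX 1 2 (- -t)) * E.w⁻¹ = _
  rw [other_slX _ ne12, neg_neg]

theorem Q_W (t : F) : E.Q t = E.Φ (W F m) * E.Y t * (E.Φ (W F m))⁻¹ := by
  rw [Q, E.other.P_eq, other_Phi, W, embSL_tIn, tIn_wS]
  rfl

theorem conj_X {g : G} {a b c d : G} (e : a * b * a⁻¹ * b⁻¹ = c) (h : g * c * g⁻¹ = d) :
    g * a * g⁻¹ * (g * b * g⁻¹) * (g * a * g⁻¹)⁻¹ * (g * b * g⁻¹)⁻¹ = d := by
  rw [← h, ← e]; group

theorem inv_prod {a b c : G} (e : a * b * a⁻¹ * b⁻¹ = c) : b * a * b⁻¹ * a⁻¹ = c⁻¹ := by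
  rw [← e]; group

/-- the second product relation -/
theorem prod_b (t u : F) :
    E.P t * E.Y u * (E.P t)⁻¹ * (E.Y u)⁻¹ = E.Φ (slX 1 2 (t * u)) := by
  set s := embSL (m := m + 4) f01 f01_inj (wS : S2 F) with hs
  set g := embSL (m := m + 4) f02 f02_inj (wS : S2 F) with hg
  have s0 : Mv s 0 1 (-1) := Mv.wS_fst f01 f01_inj
  have s1 : Mv s 1 0 1 := Mv.wS_snd f01 f01_inj
  have s2 : Mv s 2 2 1 := Mv.emb_fix _ _ _ fun a => by fin_cases a <;> simp [f01, ne02.symm, ne12.symm]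
  have g0 : Mv g 0 2 (-1) := Mv.wS_fst f02 f02_inj
  have g2 : Mv g 2 0 1 := Mv.wS_snd f02 f02_inj
  have g1 : Mv g 1 1 1 := Mv.emb_fix _ _ _ fun a => by fin_cases a <;> simp [f02, ne01.symm, ne12]
  have hB : E.Φ s * E.Q (-u) * (E.Φ s)⁻¹ = E.w * E.Φ (slX 2 0 u) * E.w⁻¹ := by
    rw [E.Q_eq]
    exact E.w_conj (E.emb_w _ _ WDat.blk01 _) (by rw [s2.conj s1 ne12.symm ne02.symm]; simp)
  have base : E.P t * (E.Φ s * E.Q (-u) * (E.Φ s)⁻¹) * (E.P t)⁻¹ * (E.Φ s * E.Q (-u) * (E.Φ s)⁻¹)⁻¹ =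
      E.Φ (slX 1 0 (-t * u)) := by
    rw [hB, WDat.P_def]
    refine conj_X (c := E.Φ (slX 1 0 (-t * u))) ?_ ?_
    · rw [← map_inv, ← map_inv, ← map_mul, ← map_mul, ← map_mul, stRel_slX.prod ne12 ne02.symm ne01.symm]
    · rw [← (E.hw 1 0 ⟨ne01.symm, by simp⟩ _).eq, mul_inv_cancel_right]
  have e1 : E.Φ g * E.P t * (E.Φ g)⁻¹ = E.P t := by
    have e := E.swap (g := (W F m)⁻¹ * g * W F m) ((mvW2'.mul g0).mul mvW0) ((mvW0'.mul g2).mul mvW1) t
    simp only [map_mul, map_inv, one_mul, mul_one, neg_mul_neg] at e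
    rw [show -((-1 : F)⁻¹ * t) = t by simp] at e
    rw [WDat.P_eq]
    calc E.Φ g * (E.Φ (W F m) * E.X t * (E.Φ (W F m))⁻¹) * (E.Φ g)⁻¹
        = E.Φ (W F m) * ((E.Φ (W F m))⁻¹ * E.Φ g * E.Φ (W F m) * E.X t *
            ((E.Φ (W F m))⁻¹ * E.Φ g * E.Φ (W F m))⁻¹) * (E.Φ (W F m))⁻¹ := by group
      _ = _ := by rw [e]
  have e2 : E.Φ g * (E.Φ s * E.Q (-u) * (E.Φ s)⁻¹) * (E.Φ g)⁻¹ = E.Y u := by
    have k0 : Mv (g * s * W F m) 0 1 (-1) := ((g1.mul s0).mul mvW0).congr rfl (by simp)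
    have k1 : Mv (g * s * W F m) 1 0 (-1) := ((g2.mul s2).mul mvW1).congr rfl (by simp)
    have e := E.other.swap (g := tIn (g * s * W F m)) k0.trans k1.trans u
    rw [other_Phi, tIn_tIn] at e
    rw [show -(((-1 : F)⁻¹ * (-1)⁻¹)⁻¹ * u) = -u by simp] at e
    refine Eq.trans ?_ e
    rw [E.Q_W, Y, neg_neg, map_mul, map_mul]
    group
  have e3 : E.Φ g * E.Φ (slX 1 0 (-t * u)) * (E.Φ g)⁻¹ = E.Φ (slX 1 2 (t * u)) := by
    rw [← map_inv, ← map_mul, ← map_mul, g1.conj g0 ne01.symm ne12]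
    simp
  rw [← e1, ← e2, conj_X base e3]

theorem prod_d (t u : F) :
    E.X t * E.Q u * (E.X t)⁻¹ * (E.Q u)⁻¹ = E.Φ (slX 2 1 (t * u)) := by
  have e := E.prod_b (-t) u
  have h1 : E.Φ (W F m) * E.P (-t) * (E.Φ (W F m))⁻¹ = E.X t := by
    rw [WDat.P_eq, show ∀ a x : G, a * (a * x * a⁻¹) * a⁻¹ = a * a * x * (a * a)⁻¹ from
      fun a x => by group, ← map_mul, E.scale (mvW0.mul mvW0) (mvW2.mul mvW1)]
    congr 1
    simp
  have h2 : E.Φ (W F m) * E.Φ (slX 1 2 (-t * u)) * (E.Φ (W F m))⁻¹ = E.Φ (slX 2 1 (t * u)) := by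
    rw [← map_inv, ← map_mul, ← map_mul, mvW1.conj mvW2 ne12 ne12.symm]
    simp
  have := conj_X e h2
  rwa [h1, ← E.Q_W] at this

theorem prod_f (t u : F) :
    E.Y t * E.Φ (slX 2 1 u) * (E.Y t)⁻¹ * (E.Φ (slX 2 1 u))⁻¹ = E.Q (t * u) := by
  have e := inv_prod (E.other.prod_a (-u) (-t))
  rw [other_slX _ ne12, neg_neg, WDat.P_neg] at e
  rw [Q, Y]
  rw [e]
  congr 1
  ring

theorem prod_e (t u : F) :
    E.Q t * E.Φ (slX 1 2 u) * (E.Q t)⁻¹ * (E.Φ (slX 1 2 u))⁻¹ = E.Y (t * u) := by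
  have e := inv_prod (E.other.prod_c (-u) (-t))
  rw [other_slX _ ne12.symm, neg_neg, WDat.X_neg] at e
  rw [Q, Y]
  rw [e]
  congr 1
  ring

/-- the six families -/
def fam (i j : Fin 3) (t : F) : G :=
  (![![1, E.Φ (slX 1 2 t), E.P t], ![E.Φ (slX 2 1 t), 1, E.X t], ![E.Q t, E.Y t, 1]] : Fin 3 → Fin 3 → G) i j

theorem fam01 (t : F) : E.fam 0 1 t = E.Φ (slX 1 2 t) := rfl
theorem fam10 (t : F) : E.fam 1 0 t = E.Φ (slX 2 1 t) := rfl
theorem fam02 (t : F) : E.fam 0 2 t = E.P t := rfl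
theorem fam20 (t : F) : E.fam 2 0 t = E.Q t := rfl
theorem fam12 (t : F) : E.fam 1 2 t = E.X t := rfl
theorem fam21 (t : F) : E.fam 2 1 t = E.Y t := rfl

theorem stRel_fam : StRel E.fam := by
  have c1 : ∀ t u, Commute (E.Φ (slX 1 2 t)) (E.P u) := E.Phi_P_comm
  have c2 : ∀ t u, Commute (E.Φ (slX 2 1 t)) (E.X u) := E.Phi_X_comm
  have c3 : ∀ t u, Commute (E.P t) (E.X u) := E.P_X_comm
  have c4 : ∀ t u, Commute (E.Φ (slX 2 1 t)) (E.Q u) := fun t u => by
    have h := E.other.Phi_P_comm (-t) (-u)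
    rwa [other_slX _ ne12, neg_neg] at h
  have c5 : ∀ t u, Commute (E.Φ (slX 1 2 t)) (E.Y u) := fun t u => by
    have h := E.other.Phi_X_comm (-t) (-u)
    rwa [other_slX _ ne12.symm, neg_neg] at h
  have c6 : ∀ t u, Commute (E.Q t) (E.Y u) := fun t u => E.other.P_X_comm (-t) (-u)
  have self : ∀ (f : F → G), (∀ s t, f (s + t) = f s * f t) → ∀ t u, Commute (f t) (f u) := fun f hf t u => by
    show _ = _
    rw [← hf, ← hf, add_comm]
  have d01 := self (fun t => E.Φ (slX 1 2 t)) fun s t => by simp only [stRel_slX.add ne12, map_mul]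
  have d10 := self (fun t => E.Φ (slX 2 1 t)) fun s t => by simp only [stRel_slX.add ne12.symm, map_mul]
  refine ⟨?_, ?_, ?_⟩
  · intro i j h t u
    fin_cases i <;> fin_cases j
    all_goals first
      | exact absurd rfl h
      | exact E.P_add t u
      | exact E.X_add t u
      | exact E.Q_add t u
      | exact E.Y_add t u
      | (show E.Φ _ = E.Φ _ * E.Φ _; rw [stRel_slX.add (by first | exact ne12 | exact ne12.symm), map_mul])
  · intro i j k l hij hkl hil hjk t u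
    fin_cases i <;> fin_cases j <;> fin_cases k <;> fin_cases l
    all_goals first
      | exact absurd rfl hij
      | exact absurd rfl hkl
      | exact absurd rfl hil
      | exact absurd rfl hjk
      | exact (d01 t u).eq
      | exact (d10 t u).eq
      | exact (self _ E.P_add t u).eq
      | exact (self _ E.X_add t u).eq
      | exact (self _ E.Q_add t u).eq
      | exact (self _ E.Y_add t u).eq
      | exact (c1 t u).eq
      | exact (c1 u t).eq.symm
      | exact (c2 t u).eq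
      | exact (c2 u t).eq.symm
      | exact (c3 t u).eq
      | exact (c3 u t).eq.symm
      | exact (c4 t u).eq
      | exact (c4 u t).eq.symm
      | exact (c5 t u).eq
      | exact (c5 u t).eq.symm
      | exact (c6 t u).eq
      | exact (c6 u t).eq.symm
  · intro i j k hij hjk hik t u
    fin_cases i <;> fin_cases j <;> fin_cases k
    all_goals first
      | exact absurd rfl hij
      | exact absurd rfl hjk
      | exact absurd rfl hik
      | exact E.prod_a t u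
      | exact E.prod_b t u
      | exact E.prod_c t u
      | exact E.prod_d t u
      | exact E.prod_e t u
      | exact E.prod_f t u

/-- the datum of the fork -/
theorem exists_dat [Finite F] :
    ∃ D : DDat G F m, D.Φ = E.Φ ∧ D.wd = E.w ∧ ∀ t, D.ψ (slX 1 2 t) = E.X t := by
  obtain ⟨f, hf⟩ := E.stRel_fam.exists_hom le_rfl
  have hf' : ∀ i j, i ≠ j → ∀ t, f (slX i j t) = E.fam i j t := fun i j h t => by rw [slX_eq h]; exact hf i j h t
  have hX : ∀ t, f (b23 (xt t)) = E.X t := fun t => by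
    rw [b23_xt]; exact hf' 1 2 (by decide) t
  have hY : ∀ t, f (b23 (yt t)) = E.Y t := fun t => by
    rw [b23_yt]; exact hf' 2 1 (by decide) t
  have hcom : ∀ i j, Blk i j → ∀ t A, Commute (E.Φ (slX i j t)) (f (b23 A)) := by
    intro i j h t A
    have htop : (Subgroup.centralizer ({E.Φ (slX i j t)} : Set G)).comap (f.comp b23) = ⊤ := by
      refine s2_eq_top (fun s => ?_) fun s => ?_ <;> refine Subgroup.mem_centralizer_singleton_iff.2 ?_
      · rw [MonoidHom.comp_apply, hX]; exact (E.blk_X h t s).eq.symm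
      · rw [MonoidHom.comp_apply, hY]
        have e := E.other.blk_X h.symm (-t) (-s)
        rw [other_slX _ h.1.symm, neg_neg] at e
        exact e.eq.symm
    exact (Subgroup.mem_centralizer_singleton_iff.1
      (htop.symm ▸ Subgroup.mem_top A :
        A ∈ (Subgroup.centralizer ({E.Φ (slX i j t)} : Set G)).comap (f.comp b23))).symm
  refine ⟨{
    Φ := E.Φ
    ψ := f
    up := fun t => (hf' 0 1 (by decide) t).symm
    down := fun t => (hf' 1 0 (by decide) t).symm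
    far01 := hcom 0 1 ⟨ne01, by simp⟩
    far10 := hcom 1 0 ⟨ne01.symm, by simp⟩
    far := fun i j hi hj hij => hcom i j ⟨hij, by omega⟩ }, rfl, ?_, hf' 1 2 (by decide)⟩
  show f (b23 wS) = E.w
  rw [show (wS : S2 F) = xt 1 * yt (-1) * xt 1 from by
    apply Subtype.ext
    show wS.1 = (xt (1 : F)).1 * (yt (-1 : F)).1 * (xt (1 : F)).1
    rw [coe_wS, coe_xt, coe_yt]
    ext i j
    fin_cases i <;> fin_cases j <;> simp [mul_apply, Fin.sum_univ_two],
    map_mul, map_mul, map_mul, map_mul, hX, hY, Y, neg_neg]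
  exact E.hR.symm

end Ext

end CfsgLib.Lie.BoundedPres.OPlus
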