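import Cfsg.Agent.Lib.Lie.BoundedPres.OmegaPlus.Side
import Cfsg.Agent.Lib.Char.SingleBond.TypeDParts.Equivariance
import Cfsg.Agent.Lib.Classical.SLNormalized
import Cfsg.Agent.Lib.Classical.SL2Sylow
import Cfsg.Agent.Lib.SLGen.CyclicPair
import Cfsg.Agent.S2278
import Cfsg.Agent.S2279

/-!
# The block group of the first two and the other coordinates has two generators
-/

set_option autoImplicit false

namespace CfsgLib.Lie.BoundedPres.OPlus

open Matrix CfsgLib.Char.SingleBond CfsgLib.Char.SingleBond.DDat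

variable {F : Type*} [Field F]

/-- a subdirect subgroup meeting the second factor in a subgroup with everything is everything -/
theorem eq_top_of_subdirect {A B : Type*} [Group A] [Group B] {D : Subgroup (A × B)}
    (h1 : D.map (MonoidHom.fst A B) = ⊤) (h2 : D.comap (MonoidHom.inr A B) = ⊤) : D = ⊤ := by
  refine eq_top_iff.2 fun x _ => ?_
  obtain ⟨y, hy, he⟩ : x.1 ∈ D.map (MonoidHom.fst A B) := h1 ▸ Subgroup.mem_top _
  have hz : (MonoidHom.inr A B (y.2⁻¹ * x.2) : A × B) ∈ D :=
    (h2 ▸ Subgroup.mem_top _ : y.2⁻¹ * x.2 ∈ D.comap (MonoidHom.inr A B))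
  have e : x = y * MonoidHom.inr A B (y.2⁻¹ * x.2) := by
    refine Prod.ext ?_ ?_
    · simp only [MonoidHom.inr_apply, Prod.fst_mul, mul_one]
      exact he.symm
    · simp
  rw [e]
  exact mul_mem hy hz

theorem comap_inr_normal {A B : Type*} [Group A] [Group B] {D : Subgroup (A × B)}
    (h : D.map (MonoidHom.snd A B) = ⊤) : (D.comap (MonoidHom.inr A B)).Normal := by
  refine ⟨fun b hb x => ?_⟩
  obtain ⟨y, hy, rfl⟩ : x ∈ D.map (MonoidHom.snd A B) := h ▸ Subgroup.mem_top x
  have e : MonoidHom.inr A B (y.2 * b * y.2⁻¹) = y * MonoidHom.inr A B b * y⁻¹ := Prod.ext (by simp) (by simp)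
  show MonoidHom.inr A B (y.2 * b * y.2⁻¹) ∈ D
  rw [e]
  exact mul_mem (mul_mem hy hb) (inv_mem hy)

theorem projections {A B : Type*} [Group A] [Group B] {a b : A × B}
    (hA : Subgroup.closure ({a.1, b.1} : Set A) = ⊤) (hB : Subgroup.closure ({a.2, b.2} : Set B) = ⊤) :
    (Subgroup.closure ({a, b} : Set (A × B))).map (MonoidHom.fst A B) = ⊤ ∧
      (Subgroup.closure ({a, b} : Set (A × B))).map (MonoidHom.snd A B) = ⊤ := by
  rw [MonoidHom.map_closure, MonoidHom.map_closure, Set.image_pair, Set.image_pair]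
  exact ⟨hA, hB⟩

variable [Fintype F]

theorem gens_two_large (hq : 4 ≤ Fintype.card F) :
    ∃ a b : S2 F × S2 F, Subgroup.closure ({a, b} : Set (S2 F × S2 F)) = ⊤ := by
  classical
  obtain ⟨k, hk⟩ := IsCyclic.exists_generator (α := Fˣ)
  let h : S2 F := dg k
  let c : S2 F := xt 1 * wS
  have hc : Subgroup.closure ({h, c} : Set (S2 F)) = ⊤ := by
    refine CfsgLib.SLGen.two_gen_large (n := 1) (by omega) le_rfl k hk h (xt 1) wS ?_ ?_ ?_
    · ext i j; fin_cases i <;> fin_cases j <;> simp [h, dg, diagonal]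
    · ext i j; fin_cases i <;> fin_cases j <;> simp [xt, transvection, Matrix.single]
    · ext i j; fin_cases i <;> fin_cases j <;> simp [wS]
  have hk2 : (k : F) ^ 2 ≠ 1 := by
    intro e
    have h1 : k ^ 2 = 1 := Units.ext (by rw [Units.val_pow_eq_pow_val, e, Units.val_one])
    have h2 := Nat.le_of_dvd (by norm_num) (orderOf_dvd_of_pow_eq_one h1)
    rw [orderOf_eq_card_of_forall_mem_zpowers hk, Nat.card_units, Nat.card_eq_fintype_card] at h2
    omega
  refine ⟨(h, c), (c, h * c), ?_⟩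
  have hB : Subgroup.closure ({c, h * c} : Set (S2 F)) = ⊤ := by
    rw [eq_top_iff, ← hc, Subgroup.closure_le]
    rintro x (rfl | rfl)
    · have h1 : h * c ∈ Subgroup.closure ({c, h * c} : Set (S2 F)) := Subgroup.subset_closure (Or.inr rfl)
      have h2 : c ∈ Subgroup.closure ({c, h * c} : Set (S2 F)) := Subgroup.subset_closure (Or.inl rfl)
      simpa using mul_mem h1 (inv_mem h2)
    · exact Subgroup.subset_closure (Or.inl rfl)
  obtain ⟨p1, p2⟩ := projections (a := ((h, c) : S2 F × S2 F)) (b := (c, h * c)) hc hB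
  set D := Subgroup.closure ({(h, c), (c, h * c)} : Set (S2 F × S2 F)) with hD
  refine eq_top_of_subdirect p1 ?_
  haveI := comap_inr_normal p2
  have hc3 : c ^ 3 = 1 := by
    rw [pow_three]
    apply Subtype.ext
    show (xt (1 : F)).1 * wS.1 * ((xt (1 : F)).1 * wS.1 * ((xt (1 : F)).1 * wS.1)) = 1
    rw [coe_xt, coe_wS]
    ext i j
    fin_cases i <;> fin_cases j <;> simp [mul_apply, Fin.sum_univ_two]
  have hmem : (h * c) ^ 3 ∈ D.comap (MonoidHom.inr (S2 F) (S2 F)) := by
    show (1, (h * c) ^ 3) ∈ D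
    have e : ((1 : S2 F), (h * c) ^ 3) = (c, h * c) ^ 3 := by rw [Prod.pow_mk, hc3]
    rw [e]
    exact pow_mem (show ((c, h * c) : S2 F × S2 F) ∈ D from Subgroup.subset_closure (Or.inr rfl)) 3
  rcases CfsgLib.Classical.sl_normal_cases le_rfl (fun e => by omega) (D.comap (MonoidHom.inr (S2 F) (S2 F)))
    with hcen | htop
  · exfalso
    have e := congrFun (congrFun (congrArg Subtype.val (Subgroup.mem_center_iff.1 (hcen hmem) (yt 1))) 0) 0
    simp only [pow_three, Matrix.SpecialLinearGroup.coe_mul, h, c, coe_dg, coe_xt, coe_yt, coe_wS] at e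
    simp [mul_apply, Fin.sum_univ_two] at e
    have := k.ne_zero
    field_simp at e
    refine hk2 (mul_left_cancel₀ this ?_)
    linear_combination e
  · exact htop

theorem gens_two_small (hq : Fintype.card F ≤ 3) :
    ∃ a b : S2 F × S2 F, Subgroup.closure ({a, b} : Set (S2 F × S2 F)) = ⊤ := by
  classical
  have hxw : Subgroup.closure ({(xt 1 : S2 F), wS} : Set (S2 F)) = ⊤ := by
    refine CfsgLib.SLGen.two_gen_small (n := 1) hq le_rfl (xt 1) wS ?_ ?_
    · ext i j; fin_cases i <;> fin_cases j <;> simp [xt, transvection, Matrix.single]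
    · ext i j; fin_cases i <;> fin_cases j <;> simp [wS]
  obtain ⟨r, N, hgen, hx, hr⟩ : ∃ (r : S2 F) (N : ℕ), Subgroup.closure ({(xt 1 : S2 F), r} : Set (S2 F)) = ⊤ ∧
      (xt 1 : S2 F) ^ N = xt 1 ∧ r ^ N = 1 := by
    have hxN : ∀ N : ℕ, (xt (1 : F)) ^ N = xt (N : F) := fun N => by
      induction N with
      | zero =>
        rw [pow_zero, Nat.cast_zero]
        exact Subtype.ext (by rw [coe_xt]; ext i j; fin_cases i <;> fin_cases j <;> simp)
      | succ N ih =>
        rw [pow_succ, ih]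
        apply Subtype.ext
        show (xt (N : F)).1 * (xt (1 : F)).1 = _
        rw [coe_xt, coe_xt, coe_xt]
        ext i j
        fin_cases i <;> fin_cases j <;> simp [mul_apply, Fin.sum_univ_two, add_comm]
    have h0 := Nat.cast_card_eq_zero F
    rcases (show Fintype.card F = 2 ∨ Fintype.card F = 3 by
      have := Fintype.one_lt_card (α := F); omega) with e | e <;> rw [e] at h0 <;> push_cast at h0
    · refine ⟨xt 1 * wS, 3, ?_, ?_, ?_⟩
      · rw [eq_top_iff, ← hxw, Subgroup.closure_le]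
        rintro x (rfl | rfl)
        · exact Subgroup.subset_closure (Or.inl rfl)
        · have h1 : xt (1 : F) * wS ∈ Subgroup.closure ({(xt 1 : S2 F), xt 1 * wS} : Set (S2 F)) :=
            Subgroup.subset_closure (Or.inr rfl)
          have h2 : xt (1 : F) ∈ Subgroup.closure ({(xt 1 : S2 F), xt 1 * wS} : Set (S2 F)) :=
            Subgroup.subset_closure (Or.inl rfl)
          simpa using mul_mem (inv_mem h2) h1
      · rw [hxN, show ((3 : ℕ) : F) = 1 by push_cast; linear_combination h0]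
      · rw [pow_three]
        apply Subtype.ext
        show (xt (1 : F)).1 * wS.1 * ((xt (1 : F)).1 * wS.1 * ((xt (1 : F)).1 * wS.1)) = 1
        rw [coe_xt, coe_wS]
        ext i j
        fin_cases i <;> fin_cases j <;> simp [mul_apply, Fin.sum_univ_two]
    · refine ⟨wS, 4, hxw, ?_, ?_⟩
      · rw [hxN, show ((4 : ℕ) : F) = 1 by push_cast; linear_combination h0]
      · rw [show 4 = 2 * 2 from rfl, pow_mul, sq, sq]
        apply Subtype.ext
        show wS.1 * wS.1 * (wS.1 * wS.1) = 1
        rw [coe_wS]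
        ext i j
        fin_cases i <;> fin_cases j <;> simp [mul_apply, Fin.sum_univ_two]
  refine ⟨(xt 1, r), (r, xt 1), ?_⟩
  set D := Subgroup.closure ({(xt 1, r), (r, xt 1)} : Set (S2 F × S2 F))
  have ha : ((xt 1, r) : S2 F × S2 F) ∈ D := Subgroup.subset_closure (Or.inl rfl)
  have hb : ((r, xt 1) : S2 F × S2 F) ∈ D := Subgroup.subset_closure (Or.inr rfl)
  have hA : D.map (MonoidHom.fst (S2 F) (S2 F)) = ⊤ :=
    (projections (a := ((xt 1, r) : S2 F × S2 F)) (b := (r, xt 1)) hgen (by rw [Set.pair_comm]; exact hgen)).1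
  refine eq_top_of_subdirect hA (eq_top_iff.2 (hgen ▸ (Subgroup.closure_le _).2 ?_))
  rintro x (rfl | rfl)
  · show ((1, xt 1) : S2 F × S2 F) ∈ D
    have e : ((1, xt 1) : S2 F × S2 F) = (r, xt 1) ^ N := by rw [Prod.pow_mk, hx, hr]
    exact e ▸ pow_mem hb N
  · show ((1, x) : S2 F × S2 F) ∈ D
    have e : ((1, x) : S2 F × S2 F) = ((xt 1, x) ^ N)⁻¹ * (xt 1, x) := by
      rw [Prod.pow_mk, hx, hr]; simp
    exact e ▸ mul_mem (inv_mem (pow_mem ha N)) ha

theorem gens_big {k : ℕ} (hk : 3 ≤ k) :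
    ∃ a b : S2 F × Matrix.SpecialLinearGroup (Fin k) F,
      Subgroup.closure ({a, b} : Set (S2 F × Matrix.SpecialLinearGroup (Fin k) F)) = ⊤ := by
  classical
  obtain ⟨u, v, huv⟩ : ∃ u v : Matrix.SpecialLinearGroup (Fin k) F, Subgroup.closure ({u, v} : Set _) = ⊤ := by
    rcases eq_or_lt_of_le hk with rfl | h4
    · obtain ⟨u, g, -, -, h⟩ := Cfsg.Agent.S2278.result (F := F)
      exact ⟨_, _, h⟩
    · obtain ⟨⟨u, v, -, -, h⟩, -⟩ := Cfsg.Agent.S2279.result (F := F) k (by omega)
      exact ⟨_, _, h⟩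
  obtain ⟨s, t, hst⟩ : ∃ s t : S2 F, Subgroup.closure ({s, t} : Set (S2 F)) = ⊤ := by
    rcases Nat.lt_or_ge (Fintype.card F) 4 with hq | hq
    · obtain ⟨a, b, h⟩ := gens_two_small (F := F) (by omega)
      refine ⟨a.1, b.1, ?_⟩
      have := congrArg (Subgroup.map (MonoidHom.fst (S2 F) (S2 F))) h
      rwa [MonoidHom.map_closure, Set.image_pair, Subgroup.map_top_of_surjective _ Prod.fst_surjective] at this
    · obtain ⟨a, b, h⟩ := gens_two_large (F := F) hq
      refine ⟨a.1, b.1, ?_⟩
      have := congrArg (Subgroup.map (MonoidHom.fst (S2 F) (S2 F))) h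
      rwa [MonoidHom.map_closure, Set.image_pair, Subgroup.map_top_of_surjective _ Prod.fst_surjective] at this
  refine ⟨(s, u), (t, v), ?_⟩
  obtain ⟨p1, p2⟩ := projections (a := (s, u)) (b := (t, v)) hst huv
  set D := Subgroup.closure ({(s, u), (t, v)} : Set (S2 F × Matrix.SpecialLinearGroup (Fin k) F))
  refine eq_top_of_subdirect p1 ?_
  haveI := comap_inr_normal p2
  set N := D.comap (MonoidHom.inr (S2 F) (Matrix.SpecialLinearGroup (Fin k) F)) with hN
  rcases CfsgLib.Classical.sl_normal_cases (by omega) (fun e => by omega) N with hcen | htop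
  swap
  · exact htop
  exfalso
  -- the second factor modulo the intersection is a quotient of the first
  have hdvd : N.index ∣ Nat.card (S2 F) := by
    let fD : D →* Matrix.SpecialLinearGroup (Fin k) F := (MonoidHom.snd _ _).comp D.subtype
    have hfD : Function.Surjective fD := fun y => by
      obtain ⟨z, hz, e⟩ : y ∈ D.map (MonoidHom.snd _ _) := p2 ▸ Subgroup.mem_top y
      exact ⟨⟨z, hz⟩, e⟩
    let gD : D →* S2 F := (MonoidHom.fst _ _).comp D.subtype
    have hgD : Function.Surjective gD := fun y => by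
      obtain ⟨z, hz, e⟩ : y ∈ D.map (MonoidHom.fst _ _) := p1 ▸ Subgroup.mem_top y
      exact ⟨⟨z, hz⟩, e⟩
    have hg : Nat.card gD.ker = Nat.card N := Nat.card_congr
      { toFun := fun z => ⟨z.1.1.2, by
          show ((1, z.1.1.2) : S2 F × _) ∈ D
          have e : ((1, z.1.1.2) : S2 F × _) = z.1.1 := Prod.ext (show z.1.1.1 = 1 from z.2).symm rfl
          rw [e]; exact z.1.2⟩
        invFun := fun y => ⟨⟨(1, y.1), y.2⟩, rfl⟩
        left_inv := fun z => Subtype.ext (Subtype.ext (Prod.ext (show z.1.1.1 = 1 from z.2).symm rfl))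
        right_inv := fun y => rfl }
    have h1 := Subgroup.card_mul_index gD.ker
    rw [hg, Subgroup.index_ker, MonoidHom.range_eq_top.2 hgD, Subgroup.card_top] at h1
    have h2 := Subgroup.card_mul_index fD.ker
    rw [Subgroup.index_ker, MonoidHom.range_eq_top.2 hfD, Subgroup.card_top, ← h1,
      ← Subgroup.card_mul_index N, ← mul_assoc, mul_comm _ (Nat.card N), mul_assoc] at h2
    exact ⟨Nat.card fD.ker, (mul_left_cancel₀ (Nat.card_pos.ne') h2.symm).trans (mul_comm _ _)⟩
  -- two root subgroups of the first row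
  obtain ⟨k, rfl⟩ : ∃ i, k = i + 3 := ⟨k - 3, by omega⟩
  have h1 : (0 : Fin (k + 3)) ≠ 1 := by simp
  have h2 : (0 : Fin (k + 3)) ≠ 2 := fun e => by
    have := congrArg Fin.val e
    rw [show (2 : Fin (k + 3)).val = 2 from Nat.mod_eq_of_lt (show 2 < k + 3 by omega)] at this
    simp at this
  have h12 : (1 : Fin (k + 3)) ≠ 2 := fun e => by
    have := congrArg Fin.val e
    rw [show (2 : Fin (k + 3)).val = 2 from Nat.mod_eq_of_lt (show 2 < k + 3 by omega)] at this
    simp at this
  let f : Multiplicative (F × F) →* Matrix.SpecialLinearGroup (Fin (k + 3)) F :=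
    MonoidHom.mk' (fun z => slX 0 1 z.toAdd.1 * slX 0 2 z.toAdd.2) fun x y => by
      simp only [toAdd_mul, Prod.fst_add, Prod.snd_add, stRel_slX.add h1, stRel_slX.add h2]
      rw [mul_assoc, mul_assoc, ← mul_assoc (slX 0 1 y.toAdd.1), ← mul_assoc (slX 0 2 x.toAdd.2),
        stRel_slX.comm h1 h2 h2 h1.symm y.toAdd.1 x.toAdd.2]
  have hf : ∀ z : Multiplicative (F × F), (f z).1 = 1 + single 0 1 z.toAdd.1 + single 0 2 z.toAdd.2 := fun z => by
    show (slX 0 1 z.toAdd.1).1 * (slX 0 2 z.toAdd.2).1 = _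
    rw [coe_slX h1, coe_slX h2, Matrix.add_mul, Matrix.one_mul, Matrix.mul_add, Matrix.mul_one,
      single_mul_single_of_ne _ _ _ _ h1.symm, add_zero]
    abel
  let π := QuotientGroup.mk' N
  have hinj : Function.Injective (π.comp f) := by
    rw [← MonoidHom.ker_eq_bot_iff, Subgroup.eq_bot_iff_forall]
    intro z hz
    have hzc : f z ∈ Subgroup.center _ := hcen ((QuotientGroup.eq_one_iff _).1 hz)
    have e : ∀ (i j : Fin (k + 3)), i ≠ j → (f z).1 i j = 0 := fun i j hij => by
      obtain ⟨r, -, hr⟩ := Matrix.SpecialLinearGroup.mem_center_iff.1 hzc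
      rw [← hr]
      simp [Matrix.scalar_apply, hij]
    have ea := e 0 1 h1
    have eb := e 0 2 h2
    rw [hf] at ea eb
    simp [h1, h2, h12, h12.symm] at ea eb
    exact Multiplicative.toAdd.injective (Prod.ext ea eb)
  have hF2 : Nat.card (F × F) ∣ N.index := by
    have := Subgroup.card_dvd_of_injective (π.comp f) hinj
    rwa [Nat.card_congr Multiplicative.toAdd] at this
  have h := hF2.trans hdvd
  rw [Nat.card_prod, CfsgLib.Classical.card_sl2, Nat.card_eq_fintype_card] at h
  have h' := Nat.dvd_of_mul_dvd_mul_left Fintype.card_pos h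
  have hq := Fintype.one_lt_card (α := F)
  have e : (Fintype.card F - 1) * (Fintype.card F + 1) + 1 = Fintype.card F * Fintype.card F := by
    obtain ⟨q, hq'⟩ : ∃ q, Fintype.card F = q + 1 := ⟨Fintype.card F - 1, by omega⟩
    rw [hq']; simp; ring
  have := (Nat.dvd_add_right h').1 (e ▸ dvd_mul_right _ _)
  exact absurd (Nat.le_of_dvd one_pos this) (by omega)

/-- two generators of the block group -/
theorem exists_blk_gens (F : Type*) [Field F] [Fintype F] (m : ℕ) :
    ∃ a b : Matrix.SpecialLinearGroup (Fin (m + 4)) F,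
      (∀ i j, Blk i j → ∀ t, slX i j t ∈ Subgroup.closure ({a, b} : Set _)) ∧
      ∀ S : Subgroup (Matrix.SpecialLinearGroup (Fin (m + 4)) F), (∀ i j, Blk i j → ∀ t, slX i j t ∈ S) →
        a ∈ S ∧ b ∈ S := by
  classical
  obtain ⟨x, y, hxy⟩ : ∃ x y : S2 F × Matrix.SpecialLinearGroup (Fin (m + 2)) F,
      Subgroup.closure ({x, y} : Set _) = ⊤ := by
    rcases eq_or_ne m 0 with rfl | hm
    · rcases Nat.lt_or_ge (Fintype.card F) 4 with hq | hq
      exacts [gens_two_small (by omega), gens_two_large hq]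
    · exact gens_big (by omega)
  let f1 : S2 F →* Matrix.SpecialLinearGroup (Fin (m + 4)) F := embSL f01 f01_inj
  let f2 : Matrix.SpecialLinearGroup (Fin (m + 2)) F →* Matrix.SpecialLinearGroup (Fin (m + 4)) F :=
    embSL fT fT_inj
  have hcomm : ∀ A B, Commute (f1 A) (f2 B) := by
    intro A B
    have key : ∀ (i j : Fin 2), i ≠ j → ∀ c, Commute (f1 (slX i j c)) (f2 B) := fun i j hij c => by
      have htop : (Subgroup.centralizer ({f1 (slX i j c)} : Set _)).comap f2 = ⊤ :=
        CfsgLib.Classical.sl_eq_top _ fun a b hab d => Subgroup.mem_centralizer_singleton_iff.2 (by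
          show f2 _ * f1 _ = f1 _ * f2 _
          rw [← slX_eq hab, embSL_slX _ _ hab, embSL_slX _ _ hij]
          refine stRel_slX.comm (fT_inj.ne hab) (f01_inj.ne hij) ?_ ?_ _ _
          · fin_cases j
            exacts [fT_ne0 a, fT_ne1 a]
          · fin_cases i
            exacts [fT_ne0 b, fT_ne1 b])
      exact (Subgroup.mem_centralizer_singleton_iff.1
        (htop.symm ▸ Subgroup.mem_top B :
          B ∈ (Subgroup.centralizer ({f1 (slX i j c)} : Set _)).comap f2)).symm
    have htop : (Subgroup.centralizer ({f2 B} : Set _)).comap f1 = ⊤ :=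
      CfsgLib.Classical.sl_eq_top _ fun i j hij c => Subgroup.mem_centralizer_singleton_iff.2 (by
        rw [← slX_eq hij]; exact (key i j hij c).eq)
    exact Subgroup.mem_centralizer_singleton_iff.1
      (htop.symm ▸ Subgroup.mem_top A : A ∈ (Subgroup.centralizer ({f2 B} : Set _)).comap f1)
  let f := MonoidHom.noncommCoprod f1 f2 hcomm
  refine ⟨f x, f y, fun i j hij t => ?_, fun S hS => ?_⟩
  · have hr : slX i j t ∈ f.range := by
      obtain ⟨hne, hb⟩ := hij
      by_cases hi : i.val < 2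
      · obtain ⟨a, rfl⟩ : ∃ a, f01 a = i := ⟨⟨i.val, hi⟩, by
          rcases (show i.val = 0 ∨ i.val = 1 by omega) with e | e <;>
            simp only [e] <;> exact Fin.ext (by simp [f01, e])⟩
        obtain ⟨b, rfl⟩ : ∃ b, f01 b = j := ⟨⟨j.val, hb.1 hi⟩, by
          rcases (show j.val = 0 ∨ j.val = 1 by have := hb.1 hi; omega) with e | e <;>
            simp only [e] <;> exact Fin.ext (by simp [f01, e])⟩
        exact ⟨(slX a b t, 1), by
          simp [f, f1, embSL_slX _ _ (show a ≠ b from fun e => hne (by rw [e]))]⟩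
      · obtain ⟨a, rfl⟩ := eq_fT i (fun e => hi (by simp [e])) (fun e => hi (by simp [e]))
        have hj : ¬ j.val < 2 := fun h => hi (hb.2 h)
        obtain ⟨b, rfl⟩ := eq_fT j (fun e => hj (by simp [e])) (fun e => hj (by simp [e]))
        exact ⟨(1, slX a b t), by
          simp [f, f2, embSL_slX _ _ (show a ≠ b from fun e => hne (by rw [e]))]⟩
    rw [← Set.image_pair, ← MonoidHom.map_closure, hxy, ← MonoidHom.range_eq_map]
    exact hr
  · have key : ∀ z, f z ∈ S := by
      intro z
      have h1 : S.comap f1 = ⊤ := CfsgLib.Classical.sl_eq_top _ fun a b hab c => by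
        show f1 _ ∈ S
        rw [← slX_eq hab, embSL_slX _ _ hab]
        exact hS _ _ ⟨f01_inj.ne hab, by fin_cases a <;> fin_cases b <;> simp [f01]⟩ c
      have h2 : S.comap f2 = ⊤ := CfsgLib.Classical.sl_eq_top _ fun a b hab c => by
        show f2 _ ∈ S
        rw [← slX_eq hab, embSL_slX _ _ hab]
        exact hS _ _ ⟨fT_inj.ne hab, by simp [fT]⟩ c
      exact mul_mem (h1.symm ▸ Subgroup.mem_top z.1 : z.1 ∈ S.comap f1)
        (h2.symm ▸ Subgroup.mem_top z.2 : z.2 ∈ S.comap f2)
    exact ⟨key x, key y⟩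

end CfsgLib.Lie.BoundedPres.OPlus
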