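import Cfsg.Agent.Lib.Char.SingleBond.TypeDParts.Model
import Cfsg.Prelude.Def_Classical

/-!
# The action of the two commuting blocks of the fork
-/

set_option autoImplicit false

namespace CfsgLib.Lie.BoundedPres.OPlus

open Matrix CfsgLib.Char.SingleBond CfsgLib.Char.SingleBond.DDat

variable {F : Type*} [Field F]

section EmbP

variable {ι κ : Type*} [Fintype ι] [DecidableEq ι] [Fintype κ] [DecidableEq κ]

/-- the extension along signed coordinates, on the moved coordinates -/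
theorem embP_in (f : κ → ι) (hf : Function.Injective f) (s : κ → F) (hs : ∀ a, s a * s a = 1) (M : Matrix κ κ F)
    (w : ι → F) (a : κ) :
    (embP (colsP f s) (colsP_orth f hf s hs) M *ᵥ w) (f a) = s a * (M *ᵥ fun b => s b * w (f b)) a := by
  have h1 : (colsP f s)ᵀ *ᵥ w = fun b => s b * w (f b) := by
    funext b
    simp [colsP, mulVec, dotProduct, transpose_apply]
  rw [embP_apply, add_mulVec, one_mulVec, ← mulVec_mulVec, ← mulVec_mulVec, h1, Pi.add_apply,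
    sub_mulVec, one_mulVec]
  have h2 : ∀ y : κ → F, (colsP f s *ᵥ y) (f a) = s a * y a := fun y => by
    simp [colsP, mulVec, dotProduct, hf.eq_iff]
  rw [h2, Pi.sub_apply, mul_sub, ← mul_assoc, hs, one_mul, add_sub_cancel]

/-- and on the others -/
theorem embP_out (f : κ → ι) (hf : Function.Injective f) (s : κ → F) (hs : ∀ a, s a * s a = 1) (M : Matrix κ κ F)
    (w : ι → F) {x : ι} (hx : ∀ a, x ≠ f a) :
    (embP (colsP f s) (colsP_orth f hf s hs) M *ᵥ w) x = w x := by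
  rw [embP_apply, add_mulVec, one_mulVec, ← mulVec_mulVec, ← mulVec_mulVec, Pi.add_apply, add_eq_left]
  simp [colsP, mulVec, dotProduct, hx]

end EmbP

variable {m : ℕ}

theorem diag2_inl {k : ℕ} (g : Matrix.SpecialLinearGroup (Fin k) F) (w : Fin k ⊕ Fin k → F) (i : Fin k) :
    (diag2 g *ᵥ w) (Sum.inl i) = (g.1 *ᵥ fun j => w (Sum.inl j)) i := by
  rw [← Sum.elim_comp_inl_inr w, diag2_mulVec]; rfl

theorem diag2_inr {k : ℕ} (g : Matrix.SpecialLinearGroup (Fin k) F) (w : Fin k ⊕ Fin k → F) (i : Fin k) :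
    (diag2 g *ᵥ w) (Sum.inr i) = ((tIn g).1 *ᵥ fun j => w (Sum.inr j)) i := by
  rw [← Sum.elim_comp_inl_inr w, diag2_mulVec]; rfl

theorem val_tIn2 (A : S2 F) : (tIn A).1 = !![A.1 1 1, -A.1 1 0; -A.1 0 1, A.1 0 0] := by
  show (A⁻¹).1ᵀ = _
  rw [Matrix.SpecialLinearGroup.coe_inv, adjugate_fin_two]
  ext i j
  fin_cases i <;> fin_cases j <;> rfl

/-- the Levi block -/
theorem levi_apply (A : S2 F) (w : DI m → F) :
    (diag2 (embSL f01 f01_inj A) *ᵥ w) (Sum.inl 0) = A.1 0 0 * w (Sum.inl 0) + A.1 0 1 * w (Sum.inl 1) ∧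
    (diag2 (embSL f01 f01_inj A) *ᵥ w) (Sum.inl 1) = A.1 1 0 * w (Sum.inl 0) + A.1 1 1 * w (Sum.inl 1) ∧
    (diag2 (embSL f01 f01_inj A) *ᵥ w) (Sum.inr 0) = A.1 1 1 * w (Sum.inr 0) - A.1 1 0 * w (Sum.inr 1) ∧
    (diag2 (embSL f01 f01_inj A) *ᵥ w) (Sum.inr 1) = A.1 0 0 * w (Sum.inr 1) - A.1 0 1 * w (Sum.inr 0) ∧
    ∀ i : Fin (m + 4), i ≠ 0 → i ≠ 1 → (diag2 (embSL f01 f01_inj A) *ᵥ w) (Sum.inl i) = w (Sum.inl i) ∧
      (diag2 (embSL f01 f01_inj A) *ᵥ w) (Sum.inr i) = w (Sum.inr i) := by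
  have key : ∀ (B : S2 F) (v : Fin (m + 4) → F),
      ((embSL f01 f01_inj B).1 *ᵥ v) 0 = B.1 0 0 * v 0 + B.1 0 1 * v 1 ∧
      ((embSL f01 f01_inj B).1 *ᵥ v) 1 = B.1 1 0 * v 0 + B.1 1 1 * v 1 ∧
      ∀ i : Fin (m + 4), i ≠ 0 → i ≠ 1 → ((embSL f01 f01_inj B).1 *ᵥ v) i = v i := by
    intro B v
    refine ⟨?_, ?_, fun i h0 h1 => ?_⟩
    · refine (embP_in f01 f01_inj (1 : Fin 2 → F) (fun _ => one_mul _) B.1 v 0).trans ?_
      simp [f01, mulVec, dotProduct, Fin.sum_univ_two]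
    · refine (embP_in f01 f01_inj (1 : Fin 2 → F) (fun _ => one_mul _) B.1 v 1).trans ?_
      simp [f01, mulVec, dotProduct, Fin.sum_univ_two]
    · exact embP_out f01 f01_inj (1 : Fin 2 → F) (fun _ => one_mul _) B.1 v
        (fun a => by fin_cases a <;> simp [f01, h0, h1])
  obtain ⟨a0, a1, a2⟩ := key A fun j => w (Sum.inl j)
  obtain ⟨b0, b1, b2⟩ := key (tIn A) fun j => w (Sum.inr j)
  simp only [diag2_inl, diag2_inr, embSL_tIn]
  refine ⟨a0, a1, ?_, ?_, fun i h0 h1 => ⟨a2 i h0 h1, b2 i h0 h1⟩⟩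
  · rw [b0, val_tIn2]; simp; ring
  · rw [b1, val_tIn2]; simp; ring

theorem coe_tIn_b23 (A : S2 F) : (tIn (b23 A)).1 =
    !![(1 : F), 0, 0; 0, A.1 1 1, -A.1 1 0; 0, -A.1 0 1, A.1 0 0] := by
  rw [tIn_b23, coe_b23, val_tIn2]
  ext i j
  fin_cases i <;> fin_cases j <;> simp

/-- the block of the fork -/
theorem fork_apply (A : S2 F) (w : DI m → F) :
    (psiM (b23 A) *ᵥ w) (Sum.inr 1) = A.1 0 0 * w (Sum.inr 1) + A.1 0 1 * w (Sum.inl 0) ∧
    (psiM (b23 A) *ᵥ w) (Sum.inl 0) = A.1 1 0 * w (Sum.inr 1) + A.1 1 1 * w (Sum.inl 0) ∧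
    (psiM (b23 A) *ᵥ w) (Sum.inl 1) = A.1 1 1 * w (Sum.inl 1) - A.1 1 0 * w (Sum.inr 0) ∧
    (psiM (b23 A) *ᵥ w) (Sum.inr 0) = A.1 0 0 * w (Sum.inr 0) - A.1 0 1 * w (Sum.inl 1) ∧
    ∀ i : Fin (m + 4), i ≠ 0 → i ≠ 1 → (psiM (b23 A) *ᵥ w) (Sum.inl i) = w (Sum.inl i) ∧
      (psiM (b23 A) *ᵥ w) (Sum.inr i) = w (Sum.inr i) := by
  have e := embP_in (fPD (m := m)) fPD_inj (Sum.elim sgD sgD) sgD_sq (diag2 (b23 A)) w
  have h12 := ne12 (m := m)
  have h02 := ne02 (m := m)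
  have hcoe : psiM (m := m) (b23 A) =
      embP (colsP fPD (Sum.elim sgD sgD)) (colsP_orth fPD fPD_inj _ sgD_sq) (diag2 (b23 A)) := rfl
  rw [hcoe]
  refine ⟨?_, ?_, ?_, ?_, fun i h0 h1 => ?_⟩
  · refine (e (Sum.inl 1)).trans ?_
    rw [diag2_inl]; simp [fPD, fyD, sgD, coe_b23, mulVec, dotProduct, Fin.sum_univ_three]
  · refine (e (Sum.inl 2)).trans ?_
    rw [diag2_inl]; simp [fPD, fyD, sgD, coe_b23, mulVec, dotProduct, Fin.sum_univ_three]
  · refine (e (Sum.inr 1)).trans ?_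
    rw [diag2_inr]; simp [fPD, fyD, sgD, coe_tIn_b23, mulVec, dotProduct, Fin.sum_univ_three]; ring
  · refine (e (Sum.inr 2)).trans ?_
    rw [diag2_inr]; simp [fPD, fyD, sgD, coe_tIn_b23, mulVec, dotProduct, Fin.sum_univ_three]; ring
  · by_cases h2 : i = 2
    · subst h2
      constructor
      · refine (e (Sum.inr 0)).trans ?_
        rw [diag2_inr]; simp [fPD, fyD, sgD, coe_tIn_b23, mulVec, dotProduct, Fin.sum_univ_three]
      · refine (e (Sum.inl 0)).trans ?_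
        rw [diag2_inl]; simp [fPD, fyD, sgD, coe_b23, mulVec, dotProduct, Fin.sum_univ_three]
    · constructor <;> refine embP_out fPD fPD_inj _ sgD_sq _ w fun a => ?_ <;>
        rcases a with a | a <;> fin_cases a <;> simp [fPD, fyD, h0, h1, h2]

theorem ext_two {f g : DI m → F} (a : f (Sum.inl 0) = g (Sum.inl 0)) (b : f (Sum.inl 1) = g (Sum.inl 1))
    (c : f (Sum.inr 0) = g (Sum.inr 0)) (d : f (Sum.inr 1) = g (Sum.inr 1))
    (e : ∀ i : Fin (m + 4), i ≠ 0 → i ≠ 1 → f (Sum.inl i) = g (Sum.inl i) ∧ f (Sum.inr i) = g (Sum.inr i)) :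
    f = g := by
  funext x
  rcases x with i | i
  · rcases eq_or_ne i 0 with rfl | h0
    · exact a
    rcases eq_or_ne i 1 with rfl | h1
    · exact b
    exact (e i h0 h1).1
  · rcases eq_or_ne i 0 with rfl | h0
    · exact c
    rcases eq_or_ne i 1 with rfl | h1
    · exact d
    exact (e i h0 h1).2

/-- the vector negated by both involutions -/
def negVec (a b : F) : DI m → F :=
  -b • (Pi.single (Sum.inl 0) 1 - Pi.single (Sum.inr 0) 1) + a • (Pi.single (Sum.inl 1) 1 - Pi.single (Sum.inr 1) 1)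

/-- the vector negated by the second involution only -/
def fixVec : DI m → F := Pi.single (Sum.inl 1) 1 + Pi.single (Sum.inr 1) 1

theorem negVec_val (a b : F) :
    negVec (m := m) a b (Sum.inl 0) = -b ∧ negVec (m := m) a b (Sum.inl 1) = a ∧
    negVec (m := m) a b (Sum.inr 0) = b ∧ negVec (m := m) a b (Sum.inr 1) = -a ∧
    ∀ i : Fin (m + 4), i ≠ 0 → i ≠ 1 →
      negVec (m := m) a b (Sum.inl i) = 0 ∧ negVec (m := m) a b (Sum.inr i) = 0 := by
  refine ⟨by simp [negVec], by simp [negVec], by simp [negVec], by simp [negVec],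
    fun i h0 h1 => ⟨by simp [negVec, h0, h1], by simp [negVec, h0, h1]⟩⟩

theorem fixVec_val :
    fixVec (F := F) (m := m) (Sum.inl 0) = 0 ∧ fixVec (F := F) (m := m) (Sum.inl 1) = 1 ∧
    fixVec (F := F) (m := m) (Sum.inr 0) = 0 ∧ fixVec (F := F) (m := m) (Sum.inr 1) = 1 ∧
    ∀ i : Fin (m + 4), i ≠ 0 → i ≠ 1 →
      fixVec (F := F) (m := m) (Sum.inl i) = 0 ∧ fixVec (F := F) (m := m) (Sum.inr i) = 0 := by
  refine ⟨by simp [fixVec], by simp [fixVec], by simp [fixVec], by simp [fixVec],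
    fun i h0 h1 => ⟨by simp [fixVec, h1], by simp [fixVec, h1]⟩⟩

/-- the involution of the standard Weyl elements -/
theorem wS_apply (a b : F) :
    diag2 (embSL f01 f01_inj (wS : S2 F)) *ᵥ (psiM (b23 wS) *ᵥ negVec (m := m) a b) = -negVec a b ∧
    diag2 (embSL f01 f01_inj (wS : S2 F)) *ᵥ (psiM (b23 wS) *ᵥ fixVec (m := m)) = fixVec := by
  have h00 : (wS : S2 F).1 0 0 = 0 := by rw [coe_wS]; rfl
  have h01 : (wS : S2 F).1 0 1 = 1 := by rw [coe_wS]; rfl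
  have h10 : (wS : S2 F).1 1 0 = -1 := by rw [coe_wS]; rfl
  have h11 : (wS : S2 F).1 1 1 = 0 := by rw [coe_wS]; rfl
  constructor
  · obtain ⟨n0, n1, n2, n3, n4⟩ := negVec_val (m := m) a b
    obtain ⟨p3, p0, p1, p2, p4⟩ := fork_apply (wS : S2 F) (negVec (m := m) a b)
    obtain ⟨l0, l1, l2, l3, l4⟩ := levi_apply (wS : S2 F) (psiM (b23 wS) *ᵥ negVec (m := m) a b)
    refine ext_two ?_ ?_ ?_ ?_ fun i h0 h1 => ⟨?_, ?_⟩ <;> simp only [Pi.neg_apply]
    · rw [l0, p0, p1, h00, h01, h10, h11, n0, n2, n3]; ring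
    · rw [l1, p0, p1, h10, h11, n0, n1, n2, n3]; ring
    · rw [l2, p2, p3, h00, h01, h10, h11, n0, n1, n2]; ring
    · rw [l3, p2, p3, h00, h01, n0, n1, n2, n3]; ring
    · rw [(l4 i h0 h1).1, (p4 i h0 h1).1, (n4 i h0 h1).1, neg_zero]
    · rw [(l4 i h0 h1).2, (p4 i h0 h1).2, (n4 i h0 h1).2, neg_zero]
  · obtain ⟨n0, n1, n2, n3, n4⟩ := fixVec_val (F := F) (m := m)
    obtain ⟨p3, p0, p1, p2, p4⟩ := fork_apply (wS : S2 F) (fixVec (m := m))
    obtain ⟨l0, l1, l2, l3, l4⟩ := levi_apply (wS : S2 F) (psiM (b23 wS) *ᵥ fixVec (m := m))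
    refine ext_two ?_ ?_ ?_ ?_ fun i h0 h1 => ⟨?_, ?_⟩
    · rw [l0, p0, p1, h00, h01, h10, h11, n0, n1, n2]; ring
    · rw [l1, p0, p1, h10, h11, n0, n1, n2, n3]; ring
    · rw [l2, p2, p3, h00, h01, h10, h11, n0, n2, n3]; ring
    · rw [l3, p2, p3, h00, h01, n0, n1, n2, n3]; ring
    · rw [(l4 i h0 h1).1, (p4 i h0 h1).1]
    · rw [(l4 i h0 h1).2, (p4 i h0 h1).2]

theorem polar_plus (w z : DI m → F) :
    QuadraticMap.polar (Cfsg.quadFormPlus (m + 4) F) w z =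
      ∑ i, (w (Sum.inl i) * z (Sum.inr i) + w (Sum.inr i) * z (Sum.inl i)) := by
  simp only [QuadraticMap.polar, Cfsg.quadFormPlus, Pi.add_apply, ← Finset.sum_sub_distrib]
  exact Finset.sum_congr rfl fun i _ => by ring

/-- the involution of a block with square `-1` is a product of two reflections -/
theorem blk_apply {a b : F} (hab : a * a + b * b = -1) {A : S2 F} (hA : A.1 = !![a, b; b, -a]) (w : DI m → F) :
    diag2 (embSL f01 f01_inj A) *ᵥ (psiM (b23 A) *ᵥ w) =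
      w - QuadraticMap.polar (Cfsg.quadFormPlus (m + 4) F) w (negVec a b) • negVec a b
        - QuadraticMap.polar (Cfsg.quadFormPlus (m + 4) F) w (fixVec (m := m)) • fixVec (m := m) := by
  have h00 : A.1 0 0 = a := by rw [hA]; rfl
  have h01 : A.1 0 1 = b := by rw [hA]; rfl
  have h10 : A.1 1 0 = b := by rw [hA]; rfl
  have h11 : A.1 1 1 = -a := by rw [hA]; rfl
  obtain ⟨n0, n1, n2, n3, n4⟩ := negVec_val (m := m) a b
  obtain ⟨f0, f1, f2, f3, f4⟩ := fixVec_val (F := F) (m := m)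
  obtain ⟨p3, p0, p1, p2, p4⟩ := fork_apply A w
  obtain ⟨l0, l1, l2, l3, l4⟩ := levi_apply A (psiM (b23 A) *ᵥ w)
  have eu : QuadraticMap.polar (Cfsg.quadFormPlus (m + 4) F) w (negVec a b) =
      w (Sum.inl 0) * b + w (Sum.inr 0) * (-b) + (w (Sum.inl 1) * (-a) + w (Sum.inr 1) * a) := by
    rw [polar_plus, Finset.sum_eq_add (0 : Fin (m + 4)) 1 ne01 (fun c _ hc => by
      rw [(n4 c hc.1 hc.2).1, (n4 c hc.1 hc.2).2]; ring) (by simp) (by simp), n0, n1, n2, n3]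
  have ev : QuadraticMap.polar (Cfsg.quadFormPlus (m + 4) F) w (fixVec (m := m)) =
      w (Sum.inl 1) + w (Sum.inr 1) := by
    rw [polar_plus, Finset.sum_eq_add (0 : Fin (m + 4)) 1 ne01 (fun c _ hc => by
      rw [(f4 c hc.1 hc.2).1, (f4 c hc.1 hc.2).2]; ring) (by simp) (by simp), f0, f1, f2, f3]
    ring
  rw [eu, ev]
  refine ext_two ?_ ?_ ?_ ?_ fun i h0 h1 => ⟨?_, ?_⟩ <;> simp only [Pi.sub_apply, Pi.smul_apply, smul_eq_mul]
  · rw [l0, p0, p1, h00, h01, h10, h11, n0, f0]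
    linear_combination -(w (Sum.inl 0)) * hab + (w (Sum.inl 0)) * 0
  · rw [l1, p0, p1, h10, h11, n1, f1]
    linear_combination (w (Sum.inr 1) + 0) * hab
  · rw [l2, p2, p3, h00, h01, h10, h11, n2, f2]
    linear_combination -(w (Sum.inr 0)) * hab
  · rw [l3, p2, p3, h00, h01, n3, f3]
    linear_combination (w (Sum.inl 1)) * hab
  · rw [(l4 i h0 h1).1, (p4 i h0 h1).1, (n4 i h0 h1).1, (f4 i h0 h1).1]; ring
  · rw [(l4 i h0 h1).2, (p4 i h0 h1).2, (n4 i h0 h1).2, (f4 i h0 h1).2]; ring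

end CfsgLib.Lie.BoundedPres.OPlus
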