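import Cfsg.Agent.Lib.Char.SingleBond.TypeDParts.Kernel

/-!
# The maximal parabolic subgroup of the Levi factor and the abelian radical embeds
-/

set_option autoImplicit false

namespace CfsgLib.Lie.BoundedPres.OPlus

open Matrix CfsgLib.Char.SingleBond CfsgLib.Char.SingleBond.DDat

variable {F : Type*} [Field F] {H : Type*} [Group H] {m : ℕ} (D : DDat H F m)

/-- increasing pairs of coordinates -/
abbrev PI (m : ℕ) := {p : Fin (m + 4) × Fin (m + 4) // p.1 < p.2}

/-- one parameter subgroups of the radical -/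
noncomputable def pairF (p : PI m) : Multiplicative F →* H :=
  MonoidHom.mk' (fun t => D.C p.1.1 p.1.2 t.toAdd) fun _ _ => D.C_add _ _

theorem pairF_comm : Pairwise fun i j => ∀ x y : Multiplicative F, Commute (pairF D i x) (pairF D j y) :=
  fun i j _ _ _ => D.C_comm i.2.ne j.2.ne _ _

/-- parametrisation of the radical -/
noncomputable def pairH : (PI m → Multiplicative F) →* H := MonoidHom.noncommPiCoprod (pairF D) (pairF_comm D)

theorem pairH_single (p : PI m) (t : Multiplicative F) :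
    pairH D (Pi.mulSingle p t) = D.C p.1.1 p.1.2 t.toAdd :=
  MonoidHom.noncommPiCoprod_mulSingle _ _ _

theorem Cgrp_le_pairH : D.Cgrp ≤ (pairH D).range := by
  refine (Subgroup.closure_le _).2 ?_
  rintro _ ⟨i, j, t, hij, rfl⟩
  rcases lt_or_gt_of_ne hij with h | h
  · exact ⟨Pi.mulSingle ⟨(i, j), h⟩ (Multiplicative.ofAdd t), pairH_single D _ _⟩
  · exact ⟨Pi.mulSingle ⟨(j, i), h⟩ (Multiplicative.ofAdd (-t)), by rw [pairH_single, D.C_swap hij.symm]; rfl⟩

theorem pairH_mem (x : PI m → Multiplicative F) : pairH D x ∈ D.Cgrp :=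
  (le_of_eq_of_le (MonoidHom.noncommPiCoprod_range _)
    (iSup_le fun p => by rintro _ ⟨t, rfl⟩; exact D.C_mem p.2.ne _)) ⟨x, rfl⟩

/-- the parametrisation of the subgroup generated by the Levi factor and the radical -/
noncomputable def parP (x : Matrix.SpecialLinearGroup (Fin (m + 4)) F × (PI m → Multiplicative F)) : H :=
  D.Φ x.1 * pairH D x.2

theorem coe_par :
    ((D.Φ.range ⊔ D.Cgrp : Subgroup H) : Set H) = Set.range (parP D) := by
  have hn : D.Φ.range ≤ Subgroup.normalizer (D.Cgrp : Set H) := by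
    rintro _ ⟨g, rfl⟩
    refine Subgroup.mem_normalizer_iff.2 fun z => ⟨fun hz => D.Cgrp_conj hz, fun hz => ?_⟩
    have := D.Cgrp_conj_inv (g := g) hz
    rwa [show (D.Φ g)⁻¹ * (D.Φ g * z * (D.Φ g)⁻¹) * D.Φ g = z by group] at this
  rw [Subgroup.coe_mul_of_left_le_normalizer_right _ _ hn]
  ext y
  constructor
  · rintro ⟨_, ⟨g, rfl⟩, z, hz, rfl⟩
    obtain ⟨x, rfl⟩ := Cgrp_le_pairH D hz
    exact ⟨(g, x), rfl⟩
  · rintro ⟨x, rfl⟩
    exact ⟨_, ⟨x.1, rfl⟩, _, pairH_mem D x.2, rfl⟩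

variable {D} {π : H →* GL (DI m) F} (M : IsModel D π)

include M

/-- the image of a coordinate vector under an element of the radical -/
theorem pairH_vec (x : PI m → Multiplicative F) (i : Fin (m + 4)) :
    ∃ b : Fin (m + 4) → F, (π (pairH D x) : Matrix (DI m) (DI m) F) *ᵥ Pi.single (Sum.inl i) 1 =
      Sum.elim (Pi.single i (1 : F)) b ∧ ∀ (j : Fin (m + 4)) (h : i < j), b j = (x ⟨(i, j), h⟩).toAdd := by
  classical
  rw [← Finset.univ_prod_mulSingle x]
  refine Finset.prod_induction _ (fun y => ∃ b : Fin (m + 4) → F,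
    (π (pairH D y) : Matrix (DI m) (DI m) F) *ᵥ Pi.single (Sum.inl i) 1 = Sum.elim (Pi.single i (1 : F)) b ∧
      ∀ (j : Fin (m + 4)) (h : i < j), b j = (y ⟨(i, j), h⟩).toAdd) (fun a c ha hc => ?_) ?_ fun p _ => ?_
  · obtain ⟨ba, ea, ha'⟩ := ha
    obtain ⟨bc, ec, hc'⟩ := hc
    refine ⟨ba + bc, ?_, fun j h => by rw [Pi.add_apply, ha' j h, hc' j h, Pi.mul_apply, toAdd_mul]⟩
    rw [map_mul, map_mul, Units.val_mul, ← mulVec_mulVec, ec]
    have e : (Sum.elim (Pi.single i 1) bc : DI m → F) =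
        Pi.single (Sum.inl i) 1 + Sum.elim (0 : Fin (m + 4) → F) bc := by
      funext c; rcases c with c | c <;> simp [Pi.single_apply]
    rw [e, mulVec_add, ea, M.Cgrp_fix (pairH_mem D a)]
    funext c
    rcases c with c | c <;> simp
  · refine ⟨0, ?_, fun _ _ => rfl⟩
    rw [map_one, map_one, Units.val_one, one_mulVec]
    funext c
    rcases c with c | c <;> simp [Pi.single_apply]
  · obtain ⟨⟨⟨a, c⟩, hac⟩, rfl⟩ : ∃ q, q = p := ⟨p, rfl⟩
    obtain ⟨t, ht⟩ : ∃ t, t = (x ⟨(a, c), hac⟩).toAdd := ⟨_, rfl⟩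
    refine ⟨Pi.single c (if i = a then t else 0) + Pi.single a (if i = c then -t else 0), ?_, fun j hj => ?_⟩
    · rw [pairH_single, M.C_val hac.ne, rootM_mulVec, ← ht]
      funext k
      clear ht
      rcases k with k | k
      · simp [Pi.single_apply]
      · rcases eq_or_ne i a with rfl | h1
        · simp [Pi.single_apply, hac.ne, hac.ne']
        · rcases eq_or_ne i c with rfl | h2
          · simp [Pi.single_apply, h1, h1.symm]
          · simp [Pi.single_apply, h1, h1.symm, h2, h2.symm]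
    · rw [Pi.add_apply]
      rcases eq_or_ne (⟨(i, j), hj⟩ : PI m) ⟨(a, c), hac⟩ with e | e
      · simp only [Subtype.mk.injEq, Prod.mk.injEq] at e
        obtain ⟨rfl, rfl⟩ := e
        rw [Pi.mulSingle_eq_same]
        simp [hac.ne, hac.ne']
        exact ht
      · rw [Pi.mulSingle_eq_of_ne e]
        simp only [ne_eq, Subtype.mk.injEq, Prod.mk.injEq] at e
        have h1 : ¬ (j = c ∧ i = a) := fun h => e ⟨h.2, h.1⟩
        have h2 : ¬ (j = a ∧ i = c) := fun h => lt_asymm hac (h.1 ▸ h.2 ▸ hj)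
        simp only [Pi.single_apply, toAdd_one]
        split_ifs <;> simp_all

/-- it maps injectively to the orthogonal matrices -/
theorem par_injective : Function.Injective fun x => π (parP D x) := by
  rintro ⟨g, x⟩ ⟨g', x'⟩ e
  simp only [parP, map_mul] at e
  have key : ∀ (g : Matrix.SpecialLinearGroup (Fin (m + 4)) F) (x : PI m → Multiplicative F) i,
      ∃ b, (π (D.Φ g) * π (pairH D x) : GL (DI m) F).1 *ᵥ Pi.single (Sum.inl i) 1 =
        Sum.elim (g.1 *ᵥ Pi.single i (1 : F)) b := fun g x i => by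
    obtain ⟨b, hb, -⟩ := pairH_vec M x i
    exact ⟨(tIn g).1 *ᵥ b, by rw [Units.val_mul, ← mulVec_mulVec, hb, M.phi_val, diag2_mulVec]⟩
  have hg : g = g' := by
    apply Subtype.ext
    ext r i
    obtain ⟨b, hb⟩ := key g x i
    obtain ⟨b', hb'⟩ := key g' x' i
    rw [e] at hb
    have := congrFun (hb.symm.trans hb') (Sum.inl r)
    simpa using this
  subst hg
  refine Prod.ext rfl (funext fun p => ?_)
  obtain ⟨⟨i, j⟩, hij⟩ := p
  obtain ⟨b, hb, hb1⟩ := pairH_vec M x i
  obtain ⟨b', hb', hb1'⟩ := pairH_vec M x' i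
  rw [mul_left_cancel e] at hb
  have := congrFun (hb.symm.trans hb') (Sum.inr j)
  simp only [Sum.elim_inr] at this
  rw [hb1 j hij, hb1' j hij] at this
  exact Multiplicative.toAdd.injective this

theorem par_card :
    Nat.card ↥(D.Φ.range ⊔ D.Cgrp) = Nat.card (Matrix.SpecialLinearGroup (Fin (m + 4)) F) *
      Nat.card F ^ Nat.card (PI m) := by
  rw [← Nat.card_fun]
  have hi : Function.Injective (parP D) := fun _ _ h => par_injective M (congrArg π h)
  calc Nat.card ↥(D.Φ.range ⊔ D.Cgrp) = Nat.card ↥(Set.range (parP D)) := by rw [← coe_par D]; rfl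
    _ = _ := by rw [Nat.card_range_of_injective hi, Nat.card_prod]; rfl

theorem par_inj_on {z : H} (hz : z ∈ D.Φ.range ⊔ D.Cgrp) (h1 : π z = 1) : z = 1 := by
  have hz' : z ∈ Set.range (parP D) := by rw [← coe_par D]; exact hz
  obtain ⟨x, rfl⟩ := hz'
  have h0 : parP D (1, 1) = 1 := by simp [parP]
  have : x = (1, 1) := par_injective M (show π (parP D x) = π (parP D (1, 1)) by rw [h1, h0, map_one])
  rw [this, h0]

end CfsgLib.Lie.BoundedPres.OPlus
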