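import Cfsg.Agent.Lib.Lie.Mult.Orth.Cover

/-!
# Two commuting preimages that cannot commute in the double cover
-/

set_option autoImplicit false

namespace CfsgLib.Lie.BoundedPres.OPlus

open scoped commutatorElement
open Matrix CfsgLib.Lie.Mult.Orth CfsgLib.Lie.Mult.Orth.Cliff CfsgLib.Perm.Trans CfsgLib.Perm.Trans.Quad Cfsg.Geo

universe u

/-- a perfect group with central kernel over a finite group is finite -/
theorem finite_of_central_kernel {G Ω : Type*} [Group G] [Group Ω] [Finite Ω] (θ : G →* Ω)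
    (hc : θ.ker ≤ Subgroup.center G) (hG : commutator G = ⊤) : Finite G := by
  haveI : (Subgroup.center G).FiniteIndex := by
    haveI : θ.ker.FiniteIndex := ⟨by rw [Subgroup.index_ker]; exact Nat.card_pos.ne'⟩
    exact Subgroup.finiteIndex_of_le hc
  haveI : Finite (commutatorSet G) := by
    haveI : Finite (G ⧸ Subgroup.center G) := Subgroup.finite_quotient_of_finiteIndex
    let f : (G ⧸ Subgroup.center G) × (G ⧸ Subgroup.center G) → commutatorSet G := fun x =>
      ⟨⁅x.1.out, x.2.out⁆, _, _, rfl⟩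
    refine Finite.of_surjective f fun ⟨c, a, b, hab⟩ => ?_
    refine ⟨(QuotientGroup.mk a, QuotientGroup.mk b), Subtype.ext ?_⟩
    show ⁅(QuotientGroup.mk a : G ⧸ Subgroup.center G).out, (QuotientGroup.mk b : G ⧸ Subgroup.center G).out⁆ = c
    obtain ⟨z, hz⟩ := QuotientGroup.mk_out_eq_mul (Subgroup.center G) a
    obtain ⟨w, hw⟩ := QuotientGroup.mk_out_eq_mul (Subgroup.center G) b
    rw [hz, hw, ← hab]
    have h1 : ∀ (u : Subgroup.center G) (x : G), (u : G) * x * (u : G)⁻¹ = x := fun u x => by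
      rw [← Subgroup.mem_center_iff.1 u.2 x, mul_inv_cancel_right]
    calc ⁅a * (z : G), b * (w : G)⁆
        = a * ((z : G) * (b * ((w : G) * ((z : G)⁻¹ * a⁻¹) * (w : G)⁻¹)) * b⁻¹) := by
          rw [commutatorElement_def]; group
      _ = a * ((z : G) * (b * ((z : G)⁻¹ * a⁻¹)) * b⁻¹) := by rw [h1]
      _ = a * (((z : G) * b * (z : G)⁻¹) * a⁻¹ * b⁻¹) := by group
      _ = ⁅a, b⁆ := by rw [h1, commutatorElement_def]; group
  haveI : Finite ↥(commutator G) := inferInstance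
  exact Finite.of_surjective (fun x : ↥(commutator G) => (x : G)) fun g => ⟨⟨g, hG ▸ Subgroup.mem_top g⟩, rfl⟩

variable {F : Type u} [Field F] [Fintype F] {ι : Type} [Fintype ι] [DecidableEq ι] {Q : (ι → F) → F}

local notation "pol" => QuadraticMap.polar

/-- In a perfect stem extension of `Omega` with kernel of order two, the preimages of the product `g` of two
orthogonal reflections and of an isometry negating the one axis and fixing the other do not commute. -/
theorem not_commute_of_card_ker (hQ : IsNondegenerateQuadraticForm Q) (h2 : (2 : F) ≠ 0)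
    (h2n : 2 ≤ Fintype.card ι) (hb : SBound ↥(Cfsg.Omega F Q) 2) {G : Type u} [Group G] [Finite G]
    {θ : G →* ↥(Cfsg.Omega F Q)} (hθ : Cfsg.IsStemExtension θ) (hG : commutator G = ⊤)
    (hker : Nat.card θ.ker = 2) {x y : G} {u v : ι → F} (hu : Q u = 1) (hv : Q v = 1) (huv : pol Q u v = 0)
    (hxu : (omv (θ x) : Matrix ι ι F) *ᵥ u = -u) (hxv : (omv (θ x) : Matrix ι ι F) *ᵥ v = v)
    (hy : ∀ w, (omv (θ y) : Matrix ι ι F) *ᵥ w = w - pol Q w u • u - pol Q w v • v) : ¬ Commute x y := by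
  classical
  intro hxy
  obtain ⟨k, hk⟩ : ∃ k, Fintype.card ι = k + 1 := ⟨Fintype.card ι - 1, by omega⟩
  obtain ⟨b, hb0, hbo, -, -⟩ := exists_basis_std hQ h2 hk (by omega)
  obtain ⟨d, hd⟩ : ∃ d : Fin (k + 1) → F, d = fun i => Q (b i) := ⟨_, rfl⟩
  have B : OBasis Q b d := ⟨hQ, h2, fun i => by rw [hd], hbo, fun i => by rw [hd]; exact hb0 i⟩
  haveI : Finite (Module.End F (Cliff.Sp (k + 1) F)) := Finite.of_injective _ DFunLike.coe_injective
  let σ := spinPi b d Q
  have hσ : Function.Surjective σ := spinPi_surjective B h2n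
  let P : Subgroup (G × ↥(spinPre b d Q)) :=
    (θ.comp (MonoidHom.fst G ↥(spinPre b d Q))).eqLocus (σ.comp (MonoidHom.snd G ↥(spinPre b d Q)))
  let p : P →* G := (MonoidHom.fst _ _).comp P.subtype
  have hp : Function.Surjective p := fun g => by
    obtain ⟨z, hz⟩ := hσ (θ g)
    exact ⟨⟨(g, z), hz.symm⟩, rfl⟩
  have hc : p.ker ≤ Subgroup.center P := by
    rintro ⟨⟨g, z⟩, hz⟩ (hg : g = 1)
    subst hg
    have hz1 : z ∈ Subgroup.center ↥(spinPre b d Q) := spinPi_ker B ((show θ 1 = σ z from hz).symm.trans (map_one θ))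
    refine Subgroup.mem_center_iff.2 fun q => Subtype.ext (Prod.ext ?_ ?_)
    · exact (mul_one q.1.1).trans (one_mul q.1.1).symm
    · exact Subgroup.mem_center_iff.1 hz1 q.1.2
  obtain ⟨s, hs⟩ := exists_section_of_bound θ hθ hG hb hker P p hp hc
  obtain ⟨ρ, hρ⟩ : ∃ ρ : G →* ↥(spinPre b d Q), ∀ g, σ (ρ g) = θ g :=
    ⟨((MonoidHom.snd _ _).comp P.subtype).comp s, fun g => by
      have h : θ (p (s g)) = σ (s g).1.2 := (s g).2
      have e : p (s g) = g := DFunLike.congr_fun hs g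
      rw [e] at h
      exact h.symm⟩
  obtain ⟨gu, hgu⟩ : ∃ gu, gu = gam b d u := ⟨_, rfl⟩
  obtain ⟨gv, hgv⟩ : ∃ gv, gv = gam b d v := ⟨_, rfl⟩
  have su : gu * gu = 1 := by rw [hgu, gam_sq B, hu, one_smul]
  have sv : gv * gv = 1 := by rw [hgv, gam_sq B, hv, one_smul]
  have p1 : gu * gv * (gv * gu) = 1 := by rw [mul_assoc, ← mul_assoc gv, sv, one_mul, su]
  have p2 : gv * gu * (gu * gv) = 1 := by rw [mul_assoc, ← mul_assoc gu, su, one_mul, sv]
  obtain ⟨q, hq⟩ : ∃ q : (Module.End F (Cliff.Sp (k + 1) F))ˣ, (q : Module.End F (Cliff.Sp (k + 1) F)) = gu * gv :=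
    ⟨⟨gu * gv, gv * gu, p1, p2⟩, rfl⟩
  obtain ⟨ru, hru, hruv⟩ := exists_refl hQ (show Q u ≠ 0 by rw [hu]; exact one_ne_zero)
  obtain ⟨rv, hrv, hrvv⟩ := exists_refl hQ (show Q v ≠ 0 by rw [hv]; exact one_ne_zero)
  have hM : ∀ w, (omv (θ y) : Matrix ι ι F) *ᵥ w = (ru : Matrix ι ι F) *ᵥ ((rv : Matrix ι ι F) *ᵥ w) := fun w => by
    rw [hy, hrvv, hruv, psub_left hQ, psmul_left hQ, pcomm v u, huv, mul_zero, sub_zero, hu, hv, inv_one, one_mul,
      one_mul]
    abel
  have hmem : (q, θ y) ∈ spinPre b d Q := by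
    refine ⟨fun w => ?_, fun j => ?_, ?_⟩
    · show (q : Module.End F (Cliff.Sp (k + 1) F)) * gam b d w = gam b d ((omv (θ y) : Matrix ι ι F) *ᵥ w) * q
      rw [hM, hq, hgu, hgv, mul_assoc, gam_refl B (by rw [hv]; exact one_ne_zero) hrvv, emul_neg, ← mul_assoc,
        gam_refl B (by rw [hu]; exact one_ne_zero) hruv, eneg_mul, neg_neg, mul_assoc]
    · show Commute (q : Module.End F (Cliff.Sp (k + 1) F)) (Rop d j)
      rw [hq, hgu, hgv]
      exact Commute.mul_left (gam_Rop j u) (gam_Rop j v)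
    · show (q : Module.End F (Cliff.Sp (k + 1) F)) * (Pop : Module.End F (Cliff.Sp (k + 1) F)) = (Pop : Module.End F (Cliff.Sp (k + 1) F)) * (q : Module.End F (Cliff.Sp (k + 1) F))
      rw [hq, hgu, hgv, ← mul_assoc Pop, Pop_gam, eneg_mul, mul_assoc (gam b d u) Pop, Pop_gam, emul_neg, neg_neg,
        mul_assoc]
  have hcen : ρ y * ⟨(q, θ y), hmem⟩⁻¹ ∈ Subgroup.center ↥(spinPre b d Q) :=
    spinPi_ker B (by
      rw [MonoidHom.mem_ker, map_mul, map_inv]
      show σ (ρ y) * (θ y)⁻¹ = 1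
      rw [hρ, mul_inv_cancel])
  have hcom : Commute (ρ x) (⟨(q, θ y), hmem⟩ : ↥(spinPre b d Q)) := by
    have h1 := hxy.map ρ
    have h2' : Commute (ρ x) (ρ y * ⟨(q, θ y), hmem⟩⁻¹) := Subgroup.mem_center_iff.1 hcen (ρ x)
    have := h2'.inv_right.mul_right h1
    rwa [_root_.mul_inv_rev, inv_inv, inv_mul_cancel_right] at this
  obtain ⟨Y, hY⟩ : ∃ Y : Module.End F (Cliff.Sp (k + 1) F),
      Y = (((ρ x).1.1 : (Module.End F (Cliff.Sp (k + 1) F))ˣ) : Module.End F (Cliff.Sp (k + 1) F)) := ⟨_, rfl⟩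
  have hint : ∀ w, Y * gam b d w = gam b d ((omv (θ x) : Matrix ι ι F) *ᵥ w) * Y := fun w => by
    rw [hY, ← hρ x]
    exact (ρ x).2.1 w
  have e1 : Y * (gu * gv) = gu * gv * Y := by
    rw [hY, ← hq, ← Units.val_mul, ← Units.val_mul]
    exact congrArg (fun z : ↥(spinPre b d Q) => (z.1.1 : Module.End F (Cliff.Sp (k + 1) F))) hcom.eq
  have e2 : Y * (gu * gv) = -(gu * gv * Y) := by
    rw [hgu, hgv, ← mul_assoc, hint u, hxu, map_neg, eneg_mul, eneg_mul, mul_assoc, hint v, hxv, ← mul_assoc]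
  have e3 : gu * gv * Y = 0 := by
    have h : (2 : F) • (gu * gv * Y) = 0 := by
      rw [two_smul]
      nth_rewrite 1 [e1.symm.trans e2]
      exact neg_add_cancel _
    exact (smul_eq_zero.1 h).resolve_left h2
  have e4 : ((q * (ρ x).1.1 : (Module.End F (Cliff.Sp (k + 1) F))ˣ) : Module.End F (Cliff.Sp (k + 1) F)) = 0 := by
    rw [Units.val_mul, hq, ← hY, e3]
  have hne : (1 : Module.End F (Cliff.Sp (k + 1) F)) ≠ 0 := fun e => by
    have h := congrFun (LinearMap.congr_fun e (vac (k + 1) F)) fun _ => false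
    simp [vac] at h
  refine hne ?_
  rw [← Units.mul_inv (q * (ρ x).1.1), e4, zero_mul]

end CfsgLib.Lie.BoundedPres.OPlus
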