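import Cfsg.Agent.Lib.Char.SingleBond.TypeDParts.Omega
import Cfsg.Agent.Lib.Lie.Mult.Orth.Main
import Cfsg.Agent.Lib.Lie.Mult.Sylow
import Cfsg.Agent.Lib.Lie.MultExc.OEightTwo.Main
import Cfsg.Agent.Lib.Classical.SLBasic
import Cfsg.Agent.Lib.Perm.Trans.QuadNondegCases
import Cfsg.Agent.Lib.Lie.BoundedPres.OmegaPlus.Image
import Cfsg.Agent.Lib.Lie.BoundedPres.OmegaPlus.Parab
import Cfsg.Agent.Lib.Lie.BoundedPres.OmegaPlus.Stem

/-!
# The data of the fork with the square relation are the orthogonal groups `Ω⁺`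
-/

set_option autoImplicit false

namespace CfsgLib.Lie.BoundedPres.OPlus

open scoped commutatorElement
open Matrix CfsgLib.Char.SingleBond CfsgLib.Char.SingleBond.DDat
open CfsgLib.Lie.Mult.Orth CfsgLib.Perm.Trans CfsgLib.Perm.Trans.Quad Cfsg.Geo

universe u

variable {F : Type u} [Field F] [Fintype F] {m : ℕ}

local notation "QP" => Cfsg.quadFormPlus (m + 4) F
/-- the orthogonal group `Ω⁺` as a type -/
abbrev OQ (F : Type u) [Field F] (m : ℕ) : Type u := ↥(Cfsg.Omega F (Cfsg.quadFormPlus (m + 4) F))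

variable {G : Type u} [Group G] {D : DDat G F m} {π : G →* GL (DI m) F}

omit [Fintype F] in
/-- generated by the two homomorphisms, the group is perfect -/
theorem perfect_of_gen [Finite F] (hgen : D.Φ.range ⊔ D.ψ.range = ⊤) : commutator G = ⊤ := by
  have key : ∀ {k : ℕ} (f : Matrix.SpecialLinearGroup (Fin k) F →* G), 3 ≤ k → f.range ≤ commutator G := by
    intro k f hk
    rw [MonoidHom.range_eq_map, ← CfsgLib.Classical.sl_commutator (F := F) hk, commutator_def,
      Subgroup.map_commutator, commutator_def]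
    exact Subgroup.commutator_mono le_top le_top
  exact eq_top_iff.2 (hgen.ge.trans (sup_le (key D.Φ (by omega)) (key D.ψ le_rfl)))

omit [Fintype F] in
theorem gam_top (hgen : D.Φ.range ⊔ D.ψ.range = ⊤) : D.Gam = ⊤ :=
  eq_top_iff.2 (hgen.ge.trans (sup_le
    (by rintro _ ⟨a, rfl⟩; exact D.Phi_mem a) (by rintro _ ⟨a, rfl⟩; exact D.psi_mem a)))

omit [Fintype F] in
/-- the map onto the orthogonal group -/
theorem exists_theta (M : IsModel D π) (hgen : D.Φ.range ⊔ D.ψ.range = ⊤) :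
    ∃ θ : G →* (OQ F m), Function.Surjective θ ∧ (∀ g, omv (θ g) = π g) ∧ θ.ker ≤ Subgroup.center G := by
  have htop := gam_top hgen
  let ι := (Cfsg.Omega F QP).equivMapOfInjective _ (Cfsg.isometryGroup F QP).subtype_injective
  have hmem : ∀ x : G, π x ∈ (Cfsg.Omega F QP).map (Cfsg.isometryGroup F QP).subtype := fun x => by
    rw [M.omega_eq]; exact ⟨x, htop ▸ Subgroup.mem_top x, rfl⟩
  let θ : G →* (OQ F m) := ι.symm.toMonoidHom.comp (π.codRestrict _ hmem)
  have hval : ∀ g, omv (θ g) = π g := fun g =>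
    congrArg Subtype.val (ι.apply_symm_apply (π.codRestrict _ hmem g))
  refine ⟨θ, ?_, hval, fun x hx => ?_⟩
  · refine ι.symm.surjective.comp ?_
    rintro ⟨g, hg⟩
    obtain ⟨x, -, e⟩ := M.omega_eq.le hg
    exact ⟨x, Subtype.ext e⟩
  · have h1 : π x = 1 := by rw [← hval, show θ x = 1 from hx]; rfl
    exact Subgroup.mem_center_iff.2 fun y =>
      (M.ker_central (htop ▸ Subgroup.mem_top x) h1 (htop ▸ Subgroup.mem_top y)).eq.symm

omit [Fintype F] in
theorem quad_val {a b : F} (hab : a * a + b * b = -1) :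
    QP (negVec a b) = 1 ∧ QP (fixVec (F := F) (m := m)) = 1 ∧
      QuadraticMap.polar QP (negVec a b) (fixVec (m := m)) = 0 := by
  obtain ⟨n0, n1, n2, n3, n4⟩ := negVec_val (m := m) a b
  obtain ⟨f0, f1, f2, f3, f4⟩ := fixVec_val (F := F) (m := m)
  refine ⟨?_, ?_, ?_⟩
  · show ∑ i, negVec (m := m) a b (Sum.inl i) * negVec (m := m) a b (Sum.inr i) = 1
    rw [Finset.sum_eq_add (0 : Fin (m + 4)) 1 ne01 (fun c _ hc => by
      rw [(n4 c hc.1 hc.2).1, zero_mul]) (by simp) (by simp), n0, n1, n2, n3]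
    linear_combination -hab
  · show ∑ i, fixVec (F := F) (m := m) (Sum.inl i) * fixVec (F := F) (m := m) (Sum.inr i) = 1
    rw [Finset.sum_eq_add (0 : Fin (m + 4)) 1 ne01 (fun c _ hc => by
      rw [(f4 c hc.1 hc.2).1, zero_mul]) (by simp) (by simp), f0, f1, f2, f3]
    ring
  · rw [polar_plus, Finset.sum_eq_add (0 : Fin (m + 4)) 1 ne01 (fun c _ hc => by
      rw [(f4 c hc.1 hc.2).1, (f4 c hc.1 hc.2).2]; ring) (by simp) (by simp), n0, n1, n2, n3, f0, f1, f2, f3]
    ring

/-- odd characteristic: no kernel of order two -/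
theorem card_ker_ne_two [Finite G] (M : IsModel D π) (hgen : D.Φ.range ⊔ D.ψ.range = ⊤)
    (hS : D.wd * D.wd = D.Φ (embSL f01 f01_inj (wS * wS))) {θ : G →* (OQ F m)}
    (hθ : Cfsg.IsStemExtension θ) (hval : ∀ g, omv (θ g) = π g) (h2 : (2 : F) ≠ 0)
    (hb : SBound (OQ F m) 2) : Nat.card θ.ker ≠ 2 := by
  intro hk
  obtain ⟨a, b, hab⟩ := CfsgLib.Perm.Trans.Quad.exists_sq_add_sq (quadFormPlus_nd (F := F) (m := m + 4)) h2 (-1)
  rw [pow_two, pow_two] at hab
  let B : S2 F := ⟨!![a, b; b, -a], by rw [det_fin_two_of]; linear_combination -hab⟩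
  have hB : B.1 = !![a, b; b, -a] := rfl
  let φ : S2 F →* G := MonoidHom.mk' (fun X => D.Φ (embSL f01 f01_inj X) * D.ψ (b23 X)) fun X Y => by
    simp only [map_mul]
    rw [mul_assoc, mul_assoc, ← mul_assoc (D.Φ (embSL f01 f01_inj Y)), (D.K01_comm Y X).eq, mul_assoc]
  have hn2 : (wS * wS : S2 F) * (wS * wS) = 1 := by
    apply Subtype.ext
    show (wS : S2 F).1 * wS.1 * (wS.1 * wS.1) = 1
    rw [coe_wS]
    ext i j
    fin_cases i <;> fin_cases j <;> simp [mul_apply, Fin.sum_univ_two]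
  have hn : φ (wS * wS) = 1 := by
    show D.Φ (embSL f01 f01_inj (wS * wS)) * D.ψ (b23 (wS * wS)) = 1
    have e : D.ψ (b23 (wS * wS)) = D.wd * D.wd := by rw [map_mul, map_mul]; rfl
    rw [e, hS, ← map_mul, ← map_mul, hn2, map_one, map_one]
  have hAB : (wS : S2 F) * B = wS * wS * (B * wS) := by
    apply Subtype.ext
    show (wS : S2 F).1 * B.1 = wS.1 * wS.1 * (B.1 * wS.1)
    rw [coe_wS, hB]
    ext i j
    fin_cases i <;> fin_cases j <;> simp [mul_apply, Fin.sum_univ_two]
  have hcom : Commute (φ wS) (φ B) := by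
    show φ wS * φ B = φ B * φ wS
    rw [← map_mul, hAB, map_mul, hn, one_mul, map_mul]
  have hact : ∀ (X : S2 F) (w : DI m → F), (omv (θ (φ X)) : Matrix (DI m) (DI m) F) *ᵥ w =
      diag2 (embSL f01 f01_inj X) *ᵥ (psiM (b23 X) *ᵥ w) := fun X w => by
    rw [hval]
    show (π (D.Φ (embSL f01 f01_inj X) * D.ψ (b23 X)) : Matrix (DI m) (DI m) F) *ᵥ w = _
    rw [map_mul, Units.val_mul, M.phi_val, M.psi_val, mulVec_mulVec]
  obtain ⟨hu, hv, huv⟩ := quad_val (m := m) hab
  exact not_commute_of_card_ker quadFormPlus_nd h2 (by simp; omega) hb hθ (perfect_of_gen hgen) hk hu hv huv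
    ((hact wS _).trans (wS_apply a b).1) ((hact wS _).trans (wS_apply a b).2)
    (fun w => (hact B w).trans (blk_apply hab hB w)) hcom

/-- dimension eight over two elements -/
theorem ker_bot_eight_two [Finite G] (M : IsModel D π) {θ : G →* (OQ F m)}
    (hθ : Cfsg.IsStemExtension θ) (hval : ∀ g, omv (θ g) = π g) (hm : m = 0) (hF : Fintype.card F = 2) :
    θ.ker = ⊥ := by
  classical
  subst hm
  have h2 : (2 : F) = 0 := CfsgLib.Orth.two_eq_zero_of_even (by rw [hF]; exact even_two)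
  have hQ : IsNondegenerateQuadraticForm (Cfsg.quadFormPlus (0 + 4) F) := quadFormPlus_nd
  have hn : 5 ≤ Fintype.card (Fin (0 + 4) ⊕ Fin (0 + 4)) := by simp
  have hz1 := CfsgLib.Orth.card_center_omega_two hQ hn h2
  let e' : ↥(Cfsg.Omega F (Cfsg.quadFormPlus (0 + 4) F)) ≃* Cfsg.POmega F (Cfsg.quadFormPlus (0 + 4) F) :=
    QuotientGroup.quotientBot.symm.trans (QuotientGroup.quotientMulEquivOfEq (Subgroup.card_eq_one.1 hz1).symm)
  have hdvd : Nat.card θ.ker ∣ 4 := by
    have h : Cfsg.HasSchurMultiplier (Cfsg.POmega F (Cfsg.quadFormPlus (0 + 4) F))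
        (Multiplicative (ZMod 2 × ZMod 2)) := CfsgLib.Lie.MultExc.OEightTwo.multiplier_O8plus2 hF
    have hk : (e'.toMonoidHom.comp θ).ker = θ.ker := MonoidHom.ker_comp_of_injective _ _ e'.injective
    obtain ⟨p, hp⟩ := h.2 G (e'.toMonoidHom.comp θ)
      ⟨e'.surjective.comp hθ.1, hk.le.trans hθ.2.1, hk.le.trans hθ.2.2⟩
    rw [← hk]
    refine (Subgroup.card_dvd_of_surjective p hp).trans (dvd_of_eq ?_)
    rw [Nat.card_congr Multiplicative.toAdd, Nat.card_prod, Nat.card_zmod]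
  have hker : ∀ z : G, z ∈ θ.ker ↔ π z = 1 := fun z => by
    rw [MonoidHom.mem_ker, ← hval]
    exact ⟨fun h => by rw [h]; rfl, fun h => omv_injective h⟩
  have hcard : Nat.card ↥(Cfsg.Omega F (Cfsg.quadFormPlus (0 + 4) F)) = 174182400 := by
    have h := CfsgLib.Orth.card_pomega_mul hQ (by omega) (Or.inr (by simp))
    rw [← Nat.card_congr e'.toEquiv, hz1, CfsgLib.Orth.card_sqClass_two h2,
      show Nat.card (Cfsg.isometryGroup F (Cfsg.quadFormPlus (0 + 4) F)) = _ from
        CfsgLib.Classical.card_iso_plus (F := F) 3, hF] at h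
    norm_num [Finset.prod_range_succ] at h ⊢
    linarith
  let S : Subgroup ↥(Cfsg.Omega F (Cfsg.quadFormPlus (0 + 4) F)) := (D.Φ.range ⊔ D.Cgrp).map θ
  have hS : Nat.card S = 1290240 := by
    have hinj : Function.Injective (θ.comp (D.Φ.range ⊔ D.Cgrp).subtype) :=
      (injective_iff_map_eq_one _).2 fun z hz => Subtype.ext (par_inj_on M z.2 ((hker _).1 hz))
    have e1 : Nat.card S = Nat.card ↥(D.Φ.range ⊔ D.Cgrp) := by
      refine ((Nat.card_congr (MonoidHom.ofInjective hinj).toEquiv).trans ?_).symm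
      rw [MonoidHom.range_comp, Subgroup.range_subtype]
    have e2 : Nat.card (Matrix.SpecialLinearGroup (Fin (0 + 4)) F) = 20160 := by
      have h := CfsgLib.Classical.card_sl_mul (F := F) (n := 0 + 4) (by omega)
      rw [hF] at h
      norm_num [Fin.prod_univ_four] at h ⊢
      exact h
    have e3 : Nat.card (PI 0) = 6 := by rw [Nat.card_eq_fintype_card]; decide
    rw [e1, par_card M, e2, e3, Nat.card_eq_fintype_card, hF]
    rfl
  have hidx : ¬ 2 ∣ S.index := by
    have h := Subgroup.card_mul_index S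
    rw [hS, hcard] at h
    omega
  have h2' : ¬ 2 ∣ Nat.card θ.ker := by
    haveI : Fact (Nat.Prime 2) := ⟨Nat.prime_two⟩
    refine CfsgLib.Lie.Mult.not_dvd_ker_of_preimage hθ S hidx fun z hz hzc _ => ?_
    refine par_inj_on M ?_ ((hker z).1 hz)
    refine (Subgroup.commutator_le.2 ?_ : ⁅S.comap θ, S.comap θ⁆ ≤ D.Φ.range ⊔ D.Cgrp) hzc
    intro a ha b hb
    obtain ⟨a', ha', ea⟩ := ha
    obtain ⟨b', hb', eb⟩ := hb
    have ka : a'⁻¹ * a ∈ Subgroup.center G := hθ.2.1 (by rw [MonoidHom.mem_ker, map_mul, map_inv, ea, inv_mul_cancel])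
    have kb : b'⁻¹ * b ∈ Subgroup.center G := hθ.2.1 (by rw [MonoidHom.mem_ker, map_mul, map_inv, eb, inv_mul_cancel])
    have e : ∀ (x c y : G), c ∈ Subgroup.center G → ⁅x * c, y⁆ = ⁅x, y⁆ ∧ ⁅x, y * c⁆ = ⁅x, y⁆ := by
      intro x c y hc
      have h1 := Subgroup.mem_center_iff.1 hc
      constructor
      · rw [commutatorElement_def, commutatorElement_def, mul_assoc x c y, ← h1 y, _root_.mul_inv_rev]; group
      · rw [commutatorElement_def, commutatorElement_def, mul_assoc x, mul_assoc y, ← h1 x⁻¹, _root_.mul_inv_rev]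
        group
    rw [← mul_inv_cancel_left a' a, ← mul_inv_cancel_left b' b, (e _ _ _ ka).1, (e _ _ _ kb).2,
      commutatorElement_def]
    exact mul_mem (mul_mem (mul_mem ha' hb') (inv_mem ha')) (inv_mem hb')
  refine Subgroup.card_eq_one.1 ?_
  have h4 := Nat.le_of_dvd (by norm_num) hdvd
  interval_cases h : Nat.card θ.ker <;> omega

/-- the data are the orthogonal group -/
theorem exists_iso (M : IsModel D π) (hgen : D.Φ.range ⊔ D.ψ.range = ⊤)
    (hS : D.wd * D.wd = D.Φ (embSL f01 f01_inj (wS * wS))) :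
    ∃ θ : G →* (OQ F m), Function.Bijective θ ∧ ∀ g, omv (θ g) = π g := by
  classical
  obtain ⟨θ, hsurj, hval, hcen⟩ := exists_theta M hgen
  haveI : Finite (OQ F m) := inferInstance
  haveI : Finite G := finite_of_central_kernel θ hcen (perfect_of_gen hgen)
  have hθ : Cfsg.IsStemExtension θ := ⟨hsurj, hcen, by rw [perfect_of_gen hgen]; exact le_top⟩
  refine ⟨θ, ⟨(MonoidHom.ker_eq_bot_iff _).1 ?_, hsurj⟩, hval⟩
  have hQ : IsNondegenerateQuadraticForm QP := quadFormPlus_nd
  have hcard : Fintype.card (Fin (m + 4) ⊕ Fin (m + 4)) = 2 * (m + 4) := by simp [two_mul]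
  have hq1 : 1 < Fintype.card F := Fintype.one_lt_card
  by_cases h2 : (2 : F) = 0
  · by_cases hbig : 4 ≤ Fintype.card F ∨ 10 ≤ Fintype.card (Fin (m + 4) ⊕ Fin (m + 4))
    · obtain ⟨a, -, ha⟩ := exists_qvalue hQ (ndOn_top hQ)
        (by rw [finrank_top, Module.finrank_fintype_fun_eq_card]; omega) 1
      have hb := step_even ⟨hQ, one_ne_zero, Or.inr ⟨h2, rfl, ⟨m + 4, by omega⟩, by omega, hbig⟩⟩ h2 ha
      exact Subgroup.card_eq_one.1 (le_antisymm (hb G θ hθ) Nat.card_pos)
    · have hev : Even (Fintype.card F) := by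
        haveI : CharP F 2 := CharTwo.of_one_ne_zero_of_two_eq_zero one_ne_zero h2
        exact Nat.even_iff.2 (FiniteField.even_card_of_char_two (ringChar.eq F 2))
      obtain ⟨l, hl⟩ := hev
      exact ker_bot_eight_two M hθ hval (by omega) (by omega)
  · have hodd : Odd (Fintype.card F) := by
      rw [← Nat.not_even_iff_odd]
      exact fun he => h2 (CfsgLib.Orth.two_eq_zero_of_even he)
    rw [Nat.odd_iff] at hodd
    have hb : SBound (OQ F m) 2 := by
      by_cases h9 : 5 ≤ Fintype.card F ∨ 1 ≤ m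
      · exact bound_odd h2 hQ (by omega)
      · obtain rfl : m = 0 := by omega
        exact bound_plus_four_three (F := F) (by omega)
    have hle := hb G θ hθ
    have hne := card_ker_ne_two M hgen hS hθ hval h2 hb
    exact Subgroup.card_eq_one.1 (le_antisymm (by omega) Nat.card_pos)

end CfsgLib.Lie.BoundedPres.OPlus
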