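import Cfsg.Agent.Lib.Lie.BoundedPres.OmegaPlus.Mono
import Cfsg.Agent.Lib.Char.SingleBond.SteinbergHom

/-!
# One side of the fork from a Weyl element

A homomorphism of `SL_n(F)` and an element `w` commuting with the block group of the first two and the other
coordinates give a family of root elements; one further condition makes it behave like the root elements of a
root system of type `D`.
-/

set_option autoImplicit false

namespace CfsgLib.Lie.BoundedPres.OPlus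

open Matrix CfsgLib.Char.SingleBond CfsgLib.Char.SingleBond.DDat

variable {F : Type*} [Field F] {G : Type*} [Group G] {m : ℕ}

/-- two different coordinates in one block -/
def Blk (i j : Fin (m + 4)) : Prop := i ≠ j ∧ (i.val < 2 ↔ j.val < 2)

theorem Blk.symm {i j : Fin (m + 4)} (h : Blk i j) : Blk j i := ⟨h.1.symm, h.2.symm⟩

/-- the permutation element of the second and third coordinates -/
def W (F : Type*) [Field F] (m : ℕ) : Matrix.SpecialLinearGroup (Fin (m + 4)) F := embSL f12 f12_inj wS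

theorem mvW0 : Mv (W F m) 0 0 1 := Mv.emb_fix _ _ _ fun a => by fin_cases a <;> simp [f12, ne02]
theorem mvW1 : Mv (W F m) 1 2 (-1) := Mv.wS_fst f12 f12_inj
theorem mvW2 : Mv (W F m) 2 1 1 := Mv.wS_snd f12 f12_inj

theorem mvW1' : Mv (W F m)⁻¹ 1 2 1 := by simpa using (mvW2 (F := F) (m := m)).inv
theorem mvW2' : Mv (W F m)⁻¹ 2 1 (-1) := by simpa using (mvW1 (F := F) (m := m)).inv
theorem mvW0' : Mv (W F m)⁻¹ 0 0 1 := by simpa using (mvW0 (F := F) (m := m)).inv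

/-- the family of the roots `-(e_0 + e_2)` -/
def c02 (Φ : Matrix.SpecialLinearGroup (Fin (m + 4)) F →* G) (w : G) (t : F) : G :=
  w * Φ (slX 1 2 (-t)) * w⁻¹

/-- the family of the roots `-(e_0 + e_1)` -/
def c01 (Φ : Matrix.SpecialLinearGroup (Fin (m + 4)) F →* G) (w : G) (t : F) : G :=
  (Φ (W F m))⁻¹ * c02 Φ w t * Φ (W F m)

/-- the data of one side -/
structure WDat (G : Type*) [Group G] (F : Type*) [Field F] (m : ℕ) where
  /-- the Levi factor -/
  Φ : Matrix.SpecialLinearGroup (Fin (m + 4)) F →* G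
  /-- the Weyl element -/
  w : G
  hw : ∀ i j, Blk i j → ∀ t, Commute (Φ (slX i j t)) w
  hx : ∀ i j, Blk i j → ∀ t, Commute (Φ (slX i j t)) (c01 Φ w 1)

namespace WDat

variable (E : WDat G F m)

/-- the root elements -/
abbrev X (t : F) : G := c01 E.Φ E.w t
/-- the root elements one step on -/
abbrev P (t : F) : G := c02 E.Φ E.w t

theorem P_def (t : F) : E.P t = E.w * E.Φ (slX 1 2 (-t)) * E.w⁻¹ := rfl

theorem P_eq (t : F) : E.P t = E.Φ (W F m) * E.X t * (E.Φ (W F m))⁻¹ := by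
  simp only [c01]; group

theorem P_add (s t : F) : E.P (s + t) = E.P s * E.P t := by
  simp only [c02, neg_add, stRel_slX.add ne12, map_mul]
  group

theorem X_add (s t : F) : E.X (s + t) = E.X s * E.X t := by
  show _ * E.P (s + t) * _ = _
  rw [E.P_add]
  simp only [c01]
  group

theorem X_zero : E.X 0 = 1 := left_eq_mul.1 (by rw [← E.X_add, add_zero] : E.X 0 = E.X 0 * E.X 0)

theorem X_neg (t : F) : (E.X t)⁻¹ = E.X (-t) := by
  rw [inv_eq_iff_mul_eq_one, ← E.X_add, add_neg_cancel, E.X_zero]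

theorem P_zero : E.P 0 = 1 := left_eq_mul.1 (by rw [← E.P_add, add_zero] : E.P 0 = E.P 0 * E.P 0)

theorem P_neg (t : F) : (E.P t)⁻¹ = E.P (-t) := by
  rw [inv_eq_iff_mul_eq_one, ← E.P_add, add_neg_cancel, E.P_zero]

/-- block elements commute with the Weyl element -/
theorem emb_w {k : ℕ} (f : Fin k → Fin (m + 4)) (hf : Function.Injective f)
    (h : ∀ a b, a ≠ b → Blk (f a) (f b)) (A : Matrix.SpecialLinearGroup (Fin k) F) :
    Commute (E.Φ (embSL f hf A)) E.w := by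
  have htop : (Subgroup.centralizer ({E.w} : Set G)).comap (E.Φ.comp (embSL f hf)) = ⊤ :=
    CfsgLib.Classical.sl_eq_top _ fun i j hij c => Subgroup.mem_centralizer_singleton_iff.2 (by
      rw [← slX_eq hij, MonoidHom.comp_apply, embSL_slX _ _ hij]
      exact E.hw _ _ (h i j hij) c)
  exact Subgroup.mem_centralizer_singleton_iff.1
    (htop.symm ▸ Subgroup.mem_top A : A ∈ (Subgroup.centralizer ({E.w} : Set G)).comap (E.Φ.comp (embSL f hf)))

theorem blk01 : ∀ a b : Fin 2, a ≠ b → Blk (f01 (m := m) a) (f01 b) := fun a b h =>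
  ⟨f01_inj.ne h, by fin_cases a <;> fin_cases b <;> simp [f01]⟩

theorem blk23 : ∀ a b : Fin 2, a ≠ b → Blk (f23 (m := m) a) (f23 b) := fun a b h =>
  ⟨f23_inj.ne h, by
    have key : ∀ c : Fin 2, 2 ≤ (f23 (m := m) c).val := fun c => by
      fin_cases c
      exacts [val2.ge, show 2 ≤ (3 : Fin (m + 4)).val by rw [val3]; omega]
    have := key a
    have := key b
    omega⟩

/-- elements commuting with `w` act on the moved root elements through the Levi factor -/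
theorem w_conj {g x y : Matrix.SpecialLinearGroup (Fin (m + 4)) F} (hg : Commute (E.Φ g) E.w)
    (h : g * x * g⁻¹ = y) : E.Φ g * (E.w * E.Φ x * E.w⁻¹) * (E.Φ g)⁻¹ = E.w * E.Φ y * E.w⁻¹ := by
  rw [← h, map_mul, map_mul, map_inv]
  have e : E.Φ g * E.w = E.w * E.Φ g := hg.eq
  calc E.Φ g * (E.w * E.Φ x * E.w⁻¹) * (E.Φ g)⁻¹
      = (E.Φ g * E.w) * E.Φ x * (E.Φ g * E.w)⁻¹ := by group
    _ = _ := by rw [e]; group

/-- the torus element scaling the family -/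
def dt (c : Fˣ) : Matrix.SpecialLinearGroup (Fin (m + 4)) F :=
  (W F m)⁻¹ * embSL f01 f01_inj (dg c) * W F m

theorem dt0 (c : Fˣ) : Mv (dt (m := m) c) 0 0 (c : F) := by
  have h : Mv (embSL (m := m + 4) f01 f01_inj (dg c)) 0 0 (c : F) := Mv.dg_fst f01 f01_inj c
  simpa [dt] using (mvW0'.mul h).mul mvW0

theorem dt1 (c : Fˣ) : Mv (dt (m := m) c) 1 1 1 := by
  have h : Mv (embSL (m := m + 4) f01 f01_inj (dg c)) 2 2 1 :=
    Mv.emb_fix _ _ _ fun a => by fin_cases a <;> simp [f01, ne02.symm, ne12.symm]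
  simpa [dt] using (mvW2'.mul h).mul mvW1

theorem dt_all (c : Fˣ) (x : Fin (m + 4)) : ∃ e, Mv (dt (m := m) c) x x e := by
  have hd : Mv (dt (m := m) c) 2 2 ((c : F)⁻¹) := by
    have h : Mv (embSL (m := m + 4) f01 f01_inj (dg c)) 1 1 ((c : F)⁻¹) := Mv.dg_snd f01 f01_inj c
    simpa [dt] using (mvW1'.mul h).mul mvW2
  rcases eq_or_ne x 0 with rfl | h0
  · exact ⟨_, dt0 c⟩
  rcases eq_or_ne x 1 with rfl | h1
  · exact ⟨_, dt1 c⟩
  rcases eq_or_ne x 2 with rfl | h2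
  · exact ⟨_, hd⟩
  have hW : Mv (W F m) x x 1 := Mv.emb_fix _ _ _ fun a => by fin_cases a <;> simp [f12, h1, h2]
  have hh : Mv (embSL (m := m + 4) f01 f01_inj (dg c)) x x 1 :=
    Mv.emb_fix _ _ _ fun a => by fin_cases a <;> simp [f01, h0, h1]
  exact ⟨1, by simpa [dt] using ((by simpa using hW.inv : Mv (W F m)⁻¹ x x 1).mul hh).mul hW⟩

theorem X_dt (c : Fˣ) (t : F) :
    E.Φ (dt c) * E.X t * (E.Φ (dt c))⁻¹ = E.X ((c : F)⁻¹ * t) := by
  set h := embSL (m := m + 4) f01 f01_inj (dg c) with hh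
  have hP : E.Φ h * E.P t * (E.Φ h)⁻¹ = E.P ((c : F)⁻¹ * t) := by
    have h2 : Mv h 2 2 1 := Mv.emb_fix _ _ _ fun a => by fin_cases a <;> simp [f01, ne02.symm, ne12.symm]
    have h1 : Mv h 1 1 ((c : F)⁻¹) := Mv.dg_snd f01 f01_inj c
    refine E.w_conj (E.emb_w _ _ blk01 _) ?_
    rw [h1.conj h2 ne12 ne12]
    congr 1
    ring
  show _ = (E.Φ (W F m))⁻¹ * E.P ((c : F)⁻¹ * t) * E.Φ (W F m)
  rw [← hP, E.P_eq, dt, ← hh]
  simp only [map_mul, map_inv]
  group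

theorem blk_X {i j : Fin (m + 4)} (h : Blk i j) (s t : F) : Commute (E.Φ (slX i j s)) (E.X t) := by
  rcases eq_or_ne t 0 with rfl | ht
  · rw [E.X_zero]; exact Commute.one_right _
  set c : Fˣ := (Units.mk0 t ht)⁻¹
  have hX : E.X t = E.Φ (dt c) * E.X 1 * (E.Φ (dt c))⁻¹ := by rw [E.X_dt]; simp [c]
  obtain ⟨a, ha⟩ := dt_all (m := m) c i
  obtain ⟨b, hb⟩ := dt_all (m := m) c j
  have hs : E.Φ (slX i j s) = E.Φ (dt c) * E.Φ (slX i j (a⁻¹ * b * s)) * (E.Φ (dt c))⁻¹ := by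
    rw [← map_inv, ← map_mul, ← map_mul, ha.conj hb h.1 h.1]
    congr 2
    have := ha.ne
    have := hb.ne
    field_simp
  rw [hX, hs]
  exact commute_conj (E.hx i j h _) _

theorem low (a b : Fin (m + 4)) (ha : 2 ≤ a.val) (hab : a ≠ b) (t u : F) :
    Commute (E.Φ (slX a b t)) (E.X u) := by
  let C : Subgroup (Matrix.SpecialLinearGroup (Fin (m + 4)) F) :=
    (Subgroup.centralizer ({E.X u} : Set G)).comap E.Φ
  suffices slX a b t ∈ C from Subgroup.mem_centralizer_singleton_iff.1 this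
  have hblk : ∀ i j, Blk i j → ∀ s, slX i j s ∈ C := fun i j h s =>
    Subgroup.mem_centralizer_singleton_iff.2 (E.blk_X h s u).eq
  have comm : ∀ {i j k : Fin (m + 4)}, i ≠ j → j ≠ k → i ≠ k → ∀ (s : F), slX i j s ∈ C → slX j k 1 ∈ C →
      slX i k s ∈ C := fun {i j k} h1 h2 h3 s hs h1' => by
    have e := stRel_slX.prod h1 h2 h3 s (1 : F)
    rw [mul_one] at e
    rw [← e]
    exact mul_mem (mul_mem (mul_mem hs h1') (inv_mem hs)) (inv_mem h1')
  have h20 : ∀ s, slX 2 0 s ∈ C := fun s => by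
    refine Subgroup.mem_centralizer_singleton_iff.2 ?_
    have hP : Commute (E.Φ (slX 1 0 s)) (E.P u) := by
      have h1 := E.hw 1 0 ⟨ne01.symm, by simp⟩ s
      have h2 : Commute (E.Φ (slX 1 0 s)) (E.Φ (slX 1 2 (-u))) :=
        (show Commute (slX (1 : Fin (m + 4)) 0 s) (slX 1 2 (-u)) from
          stRel_slX.comm ne01.symm ne12 ne12 ne01 _ _).map E.Φ
      exact (h1.mul_right h2).mul_right h1.inv_right
    have hs : E.Φ (slX 2 0 s) = (E.Φ (W F m))⁻¹ * E.Φ (slX 1 0 s) * ((E.Φ (W F m))⁻¹)⁻¹ := by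
      rw [← map_inv, ← map_inv, ← map_mul, ← map_mul, mvW1'.conj mvW0' ne01.symm ne02.symm]
      congr 2
      simp
    have hX : E.X u = (E.Φ (W F m))⁻¹ * E.P u * ((E.Φ (W F m))⁻¹)⁻¹ := by rw [inv_inv]; rfl
    show E.Φ (slX 2 0 s) * E.X u = E.X u * E.Φ (slX 2 0 s)
    rw [hs, hX]
    exact (commute_conj hP _).eq
  have ha0 : a ≠ 0 := fun e => by rw [e] at ha; simp at ha
  by_cases hb : 2 ≤ b.val
  · exact hblk a b ⟨hab, by omega⟩ t
  have hA0 : ∀ s, slX a 0 s ∈ C := fun s => by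
    rcases eq_or_ne a 2 with rfl | ha2
    · exact h20 s
    exact comm ha2 ne02.symm ha0 s (hblk a 2 ⟨ha2, by rw [val2]; omega⟩ s) (h20 1)
  rcases (show b.val = 0 ∨ b.val = 1 by omega) with e | e
  · obtain rfl : b = 0 := Fin.ext e
    exact hA0 t
  · obtain rfl : b = 1 := Fin.ext e
    exact comm ha0 ne01 hab t (hA0 t) (hblk 0 1 ⟨ne01, by simp⟩ 1)

theorem stab {g : Matrix.SpecialLinearGroup (Fin (m + 4)) F} (h0 : Mv g 0 0 1) (h1 : Mv g 1 1 1) (t : F) :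
    Commute (E.Φ g) (E.X t) := by
  have := mem_of_fix_two (m := m + 2) ((Subgroup.centralizer ({E.X t} : Set G)).comap (E.Φ.comp tIn))
    (fun i j hij hj0 hj1 s => ?_) (g := tIn g) (by simpa using h0.row) (by simpa using h1.row)
  · have h := Subgroup.mem_centralizer_singleton_iff.1 this
    rwa [MonoidHom.comp_apply, tIn_tIn] at h
  · refine Subgroup.mem_centralizer_singleton_iff.2 ?_
    rw [MonoidHom.comp_apply, tIn_slX hij]
    refine E.low j i ?_ hij.symm _ _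
    by_contra hlt
    rcases (show j.val = 0 ∨ j.val = 1 by omega) with e | e
    exacts [hj0 (Fin.ext e), hj1 (Fin.ext e)]

theorem emb01_X (A : S2 F) (t : F) : Commute (E.Φ (embSL f01 f01_inj A)) (E.X t) := by
  have htop : (Subgroup.centralizer ({E.X t} : Set G)).comap (E.Φ.comp (embSL f01 f01_inj)) = ⊤ :=
    CfsgLib.Classical.sl_eq_top _ fun i j hij c => Subgroup.mem_centralizer_singleton_iff.2 (by
      rw [← slX_eq hij, MonoidHom.comp_apply, embSL_slX _ _ hij]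
      exact E.blk_X (blk01 i j hij) c t)
  exact Subgroup.mem_centralizer_singleton_iff.1
    (htop.symm ▸ Subgroup.mem_top A :
      A ∈ (Subgroup.centralizer ({E.X t} : Set G)).comap (E.Φ.comp (embSL f01 f01_inj)))

/-- elements fixing the two lines scale the family -/
theorem scale {g : Matrix.SpecialLinearGroup (Fin (m + 4)) F} {p q : F} (h0 : Mv g 0 0 p) (h1 : Mv g 1 1 q)
    (t : F) : E.Φ g * E.X t * (E.Φ g)⁻¹ = E.X ((p * q)⁻¹ * t) := by
  let c : Fˣ := Units.mk0 (p * q) (mul_ne_zero h0.ne h1.ne)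
  let u : Fˣ := (Units.mk0 q h1.ne)⁻¹
  set k := dt (m := m) c * embSL f01 f01_inj (dg u) with hk
  have k0 : Mv k 0 0 p := ((dt0 c).mul (Mv.dg_fst f01 f01_inj u)).congr rfl (by
    have := h1.ne; simp [c, u]; field_simp)
  have k1 : Mv k 1 1 q := ((dt1 c).mul (Mv.dg_snd f01 f01_inj u)).congr rfl (by simp [u])
  have hs := E.stab (g := k⁻¹ * g) ((k0.inv.mul h0).congr rfl (mul_inv_cancel₀ h0.ne))
    ((k1.inv.mul h1).congr rfl (mul_inv_cancel₀ h1.ne)) t
  calc E.Φ g * E.X t * (E.Φ g)⁻¹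
      = E.Φ k * (E.Φ (k⁻¹ * g) * E.X t * (E.Φ (k⁻¹ * g))⁻¹) * (E.Φ k)⁻¹ := by
        simp only [map_mul, map_inv]; group
    _ = E.Φ k * E.X t * (E.Φ k)⁻¹ := by rw [hs.eq, mul_inv_cancel_right]
    _ = E.Φ (dt c) * (E.Φ (embSL f01 f01_inj (dg u)) * E.X t * (E.Φ (embSL f01 f01_inj (dg u)))⁻¹) *
          (E.Φ (dt c))⁻¹ := by
        simp only [hk, map_mul]; group
    _ = E.X ((p * q)⁻¹ * t) := by
        rw [(E.emb01_X _ t).eq, mul_inv_cancel_right, E.X_dt]; rfl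

/-- elements exchanging the two lines -/
theorem swap {g : Matrix.SpecialLinearGroup (Fin (m + 4)) F} {p q : F} (h0 : Mv g 0 1 p) (h1 : Mv g 1 0 q)
    (t : F) : E.Φ g * E.X t * (E.Φ g)⁻¹ = E.X (-((p * q)⁻¹ * t)) := by
  set s := embSL (m := m + 4) f01 f01_inj (wS : S2 F) with hs
  have s0 : Mv s 0 1 (-1) := Mv.wS_fst f01 f01_inj
  have s1 : Mv s 1 0 1 := Mv.wS_snd f01 f01_inj
  have e := E.scale (g := g * s) (h1.mul s0) (h0.mul s1) t
  rw [map_mul, show E.Φ g * E.Φ s * E.X t * (E.Φ g * E.Φ s)⁻¹ =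
    E.Φ g * (E.Φ s * E.X t * (E.Φ s)⁻¹) * (E.Φ g)⁻¹ by group, (E.emb01_X _ t).eq, mul_inv_cancel_right] at e
  rw [e, show -1 * q * (1 * p) = -(p * q) by ring, inv_neg, neg_mul]

theorem Phi_P_comm (t u : F) : Commute (E.Φ (slX 1 2 t)) (E.P u) := by
  have e : E.Φ (slX 1 2 t) = E.Φ (W F m) * E.Φ (slX 2 1 (-t)) * (E.Φ (W F m))⁻¹ := by
    rw [← map_inv, ← map_mul, ← map_mul, mvW2.conj mvW1 ne12.symm ne12]
    congr 2
    simp
  rw [e, E.P_eq]
  exact commute_conj (E.low 2 1 val2.ge ne12.symm _ _) _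

theorem Phi_X_comm (t u : F) : Commute (E.Φ (slX 2 1 t)) (E.X u) := E.low 2 1 val2.ge ne12.symm _ _

theorem P_X_comm (t u : F) : Commute (E.P t) (E.X u) := by
  set h := embSL (m := m + 4) f23 f23_inj (wS : S2 F) with hh
  set g := embSL (m := m + 4) f13 f13_inj (wS : S2 F) with hg
  have h0 : Mv h 0 0 1 := Mv.emb_fix _ _ _ fun a => by fin_cases a <;> simp [f23, ne02, ne03]
  have h1 : Mv h 1 1 1 := Mv.emb_fix _ _ _ fun a => by fin_cases a <;> simp [f23, ne12, ne13]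
  have h2 : Mv h 2 3 (-1) := Mv.wS_fst f23 f23_inj
  have g0 : Mv g 0 0 1 := Mv.emb_fix _ _ _ fun a => by fin_cases a <;> simp [f13, ne01, ne03]
  have g1 : Mv g 1 3 (-1) := Mv.wS_fst f13 f13_inj
  have g3 : Mv g 3 1 1 := Mv.wS_snd f13 f13_inj
  have g2 : Mv g 2 2 1 := Mv.emb_fix _ _ _ fun a => by fin_cases a <;> simp [f13, ne12.symm, ne23]
  have hP : E.Φ h * E.P u * (E.Φ h)⁻¹ = E.w * E.Φ (slX 1 3 u) * E.w⁻¹ :=
    E.w_conj (E.emb_w _ _ blk23 _) (by rw [h1.conj h2 ne12 ne13]; simp)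
  have c : Commute (E.P t) (E.Φ h * E.P u * (E.Φ h)⁻¹) := by
    rw [hP]
    exact commute_conj ((show Commute (slX (1 : Fin (m + 4)) 2 (-t)) (slX 1 3 u) from
      stRel_slX.comm ne12 ne13 ne13 ne12.symm _ _).map E.Φ) _
  have e1 : E.Φ g * E.P t * (E.Φ g)⁻¹ = E.P t := by
    have e := E.scale (g := (W F m)⁻¹ * g * W F m) ((mvW0'.mul g0).mul mvW0) ((mvW2'.mul g2).mul mvW1) t
    simp only [map_mul, map_inv, one_mul, mul_one, neg_mul_neg, inv_one] at e
    rw [E.P_eq]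
    calc E.Φ g * (E.Φ (W F m) * E.X t * (E.Φ (W F m))⁻¹) * (E.Φ g)⁻¹
        = E.Φ (W F m) * ((E.Φ (W F m))⁻¹ * E.Φ g * E.Φ (W F m) * E.X t *
            ((E.Φ (W F m))⁻¹ * E.Φ g * E.Φ (W F m))⁻¹) * (E.Φ (W F m))⁻¹ := by group
      _ = _ := by rw [e]
  have e2 : E.Φ g * (E.Φ h * E.P u * (E.Φ h)⁻¹) * (E.Φ g)⁻¹ = E.X u := by
    have e := E.scale (g := g * h * W F m) ((g0.mul h0).mul mvW0) ((g3.mul h2).mul mvW1) u
    simp only [map_mul, mul_one, neg_mul_neg, inv_one, one_mul] at e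
    refine Eq.trans ?_ e
    rw [E.P_eq]
    group
  have := commute_conj c (E.Φ g)
  rwa [e1, e2] at this

/-- the first product relation -/
theorem prod_a (t u : F) :
    E.Φ (slX 1 2 t) * E.X u * (E.Φ (slX 1 2 t))⁻¹ * (E.X u)⁻¹ = E.P (t * u) := by
  set h := embSL (m := m + 4) f23 f23_inj (wS : S2 F) with hh
  set g := embSL (m := m + 4) f13 f13_inj (wS : S2 F) with hg
  have h0 : Mv h 0 0 1 := Mv.emb_fix _ _ _ fun a => by fin_cases a <;> simp [f23, ne02, ne03]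
  have h1 : Mv h 1 1 1 := Mv.emb_fix _ _ _ fun a => by fin_cases a <;> simp [f23, ne12, ne13]
  have h2 : Mv h 2 3 (-1) := Mv.wS_fst f23 f23_inj
  have g0 : Mv g 0 0 1 := Mv.emb_fix _ _ _ fun a => by fin_cases a <;> simp [f13, ne01, ne03]
  have g3 : Mv g 3 1 1 := Mv.wS_snd f13 f13_inj
  have g2 : Mv g 2 2 1 := Mv.emb_fix _ _ _ fun a => by fin_cases a <;> simp [f13, ne12.symm, ne23]
  have hP : E.Φ h * E.P u * (E.Φ h)⁻¹ = E.w * E.Φ (slX 1 3 u) * E.w⁻¹ :=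
    E.w_conj (E.emb_w _ _ blk23 _) (by rw [h1.conj h2 ne12 ne13]; simp)
  have e32 : E.Φ (slX 3 2 t) = E.w * E.Φ (slX 3 2 t) * E.w⁻¹ := by
    rw [← (E.hw 3 2 ⟨ne23.symm, by rw [val2, val3]; omega⟩ t).eq, mul_inv_cancel_right]
  have base : E.Φ (slX 3 2 t) * (E.Φ h * E.P u * (E.Φ h)⁻¹) * (E.Φ (slX 3 2 t))⁻¹ *
      (E.Φ h * E.P u * (E.Φ h)⁻¹)⁻¹ = E.P (t * u) := by
    rw [hP, e32]
    have e := stRel_slX.prod (ne13 (m := m)) ne23.symm ne12 u t
    rw [P_def, show -(t * u) = -(u * t) by ring, ← stRel_slX.neg ne12, ← e]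
    simp only [map_mul, map_inv]
    group
  have e1 : E.Φ g * E.P (t * u) * (E.Φ g)⁻¹ = E.P (t * u) := by
    have e := E.scale (g := (W F m)⁻¹ * g * W F m) ((mvW0'.mul g0).mul mvW0) ((mvW2'.mul g2).mul mvW1) (t * u)
    simp only [map_mul, map_inv, one_mul, mul_one, neg_mul_neg, inv_one] at e
    rw [E.P_eq]
    calc E.Φ g * (E.Φ (W F m) * E.X (t * u) * (E.Φ (W F m))⁻¹) * (E.Φ g)⁻¹
        = E.Φ (W F m) * ((E.Φ (W F m))⁻¹ * E.Φ g * E.Φ (W F m) * E.X (t * u) *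
            ((E.Φ (W F m))⁻¹ * E.Φ g * E.Φ (W F m))⁻¹) * (E.Φ (W F m))⁻¹ := by group
      _ = _ := by rw [e]
  have e2 : E.Φ g * (E.Φ h * E.P u * (E.Φ h)⁻¹) * (E.Φ g)⁻¹ = E.X u := by
    have e := E.scale (g := g * h * W F m) ((g0.mul h0).mul mvW0) ((g3.mul h2).mul mvW1) u
    simp only [map_mul, mul_one, neg_mul_neg, inv_one, one_mul] at e
    refine Eq.trans ?_ e
    rw [E.P_eq]
    group
  have e3 : E.Φ g * E.Φ (slX 3 2 t) * (E.Φ g)⁻¹ = E.Φ (slX 1 2 t) := by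
    rw [← map_inv, ← map_mul, ← map_mul, g3.conj g2 ne23.symm ne12]
    simp
  rw [← e3, ← e2, ← e1, ← base]
  group

/-- the third product relation -/
theorem prod_c (t u : F) :
    E.Φ (slX 2 1 t) * E.P u * (E.Φ (slX 2 1 t))⁻¹ * (E.P u)⁻¹ = E.X (t * u) := by
  have e1 : E.Φ (W F m) * E.Φ (slX 1 2 (-t)) * (E.Φ (W F m))⁻¹ = E.Φ (slX 2 1 t) := by
    rw [← map_inv, ← map_mul, ← map_mul, mvW1.conj mvW2 ne12 ne12.symm]
    simp
  have e2 : E.Φ (W F m * W F m) * E.X (-t * u) * (E.Φ (W F m * W F m))⁻¹ = E.X (t * u) := by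
    rw [E.scale (mvW0.mul mvW0) (mvW2.mul mvW1)]
    congr 1
    simp
  have e := E.prod_a (-t) u
  rw [← e1, E.P_eq u, ← e2, map_mul, show ∀ a x : G, a * a * x * (a * a)⁻¹ = a * (a * x * a⁻¹) * a⁻¹ from
    fun a x => by group, ← E.P_eq (-t * u), ← e]
  group

end WDat

end CfsgLib.Lie.BoundedPres.OPlus
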