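import Cfsg.Agent.Lib.Char.SingleBond.TypeDParts.Omega
import Cfsg.Agent.Lib.Lie.BoundedPres.OmegaPlus.Image
import Cfsg.Agent.Lib.Lie.BoundedPres.OmegaPlus.Side

/-!
# The conditions on the Levi factor and the Weyl element in the data of a fork
-/

set_option autoImplicit false

namespace CfsgLib.Lie.BoundedPres.OPlus

open Matrix CfsgLib.Char.SingleBond CfsgLib.Char.SingleBond.DDat

variable {F : Type*} [Field F] {G : Type*} [Group G] {m : ℕ} (D : DDat G F m)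

theorem c01_eq (t : F) : c01 D.Φ D.wd t = D.C 0 1 t := by
  have a0 : Mv (W F m)⁻¹ 0 0 1 := mvW0'
  have a2 : Mv (W F m)⁻¹ 2 1 (-1) := mvW2'
  have e := D.C_move ne02 ne01 (g := (W F m)⁻¹) (inv_ne_zero a0.ne) (inv_ne_zero a2.ne) a0.row a2.row (-t)
  rw [map_inv, inv_inv] at e
  rw [c01, c02, D.wd_T12, e]
  simp

theorem c01_tr (t : F) : c01 (D.Φ.comp tIn) D.wd t = D.B 0 1 (-t) := by
  have e : c01 (D.Φ.comp tIn) D.wd t = D.tr.C 0 1 t := by
    rw [← D.tr_wd]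
    exact c01_eq D.tr t
  rw [e, DDat.B, neg_neg]

theorem blk_cases {i j : Fin (m + 4)} (h : Blk i j) :
    (i = 0 ∧ j = 1) ∨ (i = 1 ∧ j = 0) ∨ (2 ≤ i.val ∧ 2 ≤ j.val) := by
  obtain ⟨hne, hb⟩ := h
  have hne' : i.val ≠ j.val := fun e => hne (Fin.ext e)
  by_cases hi : i.val < 2
  · have hj := hb.1 hi
    rcases (show (i.val = 0 ∧ j.val = 1) ∨ (i.val = 1 ∧ j.val = 0) by omega) with ⟨a, b⟩ | ⟨a, b⟩
    · exact Or.inl ⟨Fin.ext a, Fin.ext (by simpa using b)⟩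
    · exact Or.inr (Or.inl ⟨Fin.ext (by simpa using a), Fin.ext b⟩)
  · exact Or.inr (Or.inr ⟨by omega, by
      by_contra hj
      exact hi (hb.2 (by omega))⟩)

theorem dat_hw (i j : Fin (m + 4)) (h : Blk i j) (t : F) : Commute (D.Φ (slX i j t)) D.wd := by
  rcases blk_cases h with ⟨rfl, rfl⟩ | ⟨rfl, rfl⟩ | ⟨h1, h2⟩
  exacts [D.far01 _ _, D.far10 _ _, D.far _ _ h1 h2 h.1 _ _]

theorem dat_hx (i j : Fin (m + 4)) (h : Blk i j) (t : F) : Commute (D.Φ (slX i j t)) (c01 D.Φ D.wd 1) := by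
  rw [c01_eq]
  rcases blk_cases h with ⟨rfl, rfl⟩ | ⟨rfl, rfl⟩ | ⟨h1, -⟩
  · exact (D.C_fix_same ne01 _ _).1
  · exact (D.C_fix_same ne01 _ _).2
  · refine D.C_fix h.1 ne01 ?_ ?_ _ _ <;> intro e <;> rw [e] at h1 <;> simp at h1

theorem dat_hR : D.wd = c01 D.Φ D.wd 1 * c01 (D.Φ.comp tIn) D.wd 1 * c01 D.Φ D.wd 1 := by
  rw [c01_eq, c01_tr, D.C01_psi, D.B01_psi, ← map_mul, ← map_mul, ← map_mul, ← map_mul, DDat.wd]
  congr 2
  apply Subtype.ext
  show (wS : S2 F).1 = (xt (1 : F)).1 * (yt (-1 : F)).1 * (xt (1 : F)).1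
  rw [coe_wS, coe_xt, coe_yt]
  ext i j
  fin_cases i <;> fin_cases j <;> simp [mul_apply, Fin.sum_univ_two]

/-- the square of the Weyl element in the orthogonal matrices -/
theorem model_hS : (model F m).wd * (model F m).wd = (model F m).Φ (embSL f01 f01_inj (wS * wS)) := by
  show psiU (b23 wS) * psiU (b23 wS) = PhiU _
  rw [← map_mul, ← map_mul]
  refine Units.ext (Matrix.ext_iff_mulVec.2 fun w => ?_)
  rw [coe_psiU, coe_PhiU]
  have hn : (wS * wS : S2 F).1 = !![-1, 0; 0, -1] := by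
    show (wS : S2 F).1 * wS.1 = _
    rw [coe_wS]
    ext i j
    fin_cases i <;> fin_cases j <;> simp [mul_apply, Fin.sum_univ_two]
  have h00 : (wS * wS : S2 F).1 0 0 = -1 := by rw [hn]; rfl
  have h01 : (wS * wS : S2 F).1 0 1 = 0 := by rw [hn]; rfl
  have h10 : (wS * wS : S2 F).1 1 0 = 0 := by rw [hn]; rfl
  have h11 : (wS * wS : S2 F).1 1 1 = -1 := by rw [hn]; rfl
  obtain ⟨p3, p0, p1, p2, p4⟩ := fork_apply (wS * wS : S2 F) w
  obtain ⟨l0, l1, l2, l3, l4⟩ := levi_apply (wS * wS : S2 F) w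
  refine ext_two ?_ ?_ ?_ ?_ fun i h0 h1 => ⟨?_, ?_⟩
  · rw [p0, l0, h00, h01, h10, h11]; ring
  · rw [p1, l1, h10, h11]; ring
  · rw [p2, l2, h00, h01, h10, h11]; ring
  · rw [p3, l3, h00, h01]; ring
  · rw [(p4 i h0 h1).1, (l4 i h0 h1).1]
  · rw [(p4 i h0 h1).2, (l4 i h0 h1).2]

/-- transport of data along a homomorphism -/
def mapDat {H : Type*} [Group H] (f : G →* H) : DDat H F m where
  Φ := f.comp D.Φ
  ψ := f.comp D.ψ
  up t := congrArg f (D.up t)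
  down t := congrArg f (D.down t)
  far01 t A := (D.far01 t A).map f
  far10 t A := (D.far10 t A).map f
  far i j hi hj hij t A := (D.far i j hi hj hij t A).map f

theorem mapDat_wd {H : Type*} [Group H] (f : G →* H) : (mapDat D f).wd = f D.wd := rfl

/-- the words of the two sides are carried along -/
theorem map_c01 {H : Type*} [Group H] (f : G →* H) (Φ : Matrix.SpecialLinearGroup (Fin (m + 4)) F →* G) (w : G)
    (t : F) : f (c01 Φ w t) = c01 (f.comp Φ) (f w) t := by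
  simp [c01, c02]

/-- two maps agreeing on the Levi factor and at the Weyl element agree on the second factor -/
theorem psi_agree {H : Type*} [Group H] (f : G →* H) (D' : DDat H F m) (hΦ : f.comp D.Φ = D'.Φ)
    (hw : f D.wd = D'.wd) (hX : ∀ t, D.ψ (slX 1 2 t) = c01 D.Φ D.wd t) : f.comp D.ψ = D'.ψ := by
  let S : Subgroup (S3 F) := (f.comp D.ψ).eqLocus D'.ψ
  have hwS : b23 wS ∈ S := hw
  have h12 : ∀ t, slX 1 2 t ∈ S := fun t => by
    show f (D.ψ (slX 1 2 t)) = D'.ψ (slX 1 2 t)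
    rw [hX, map_c01, hΦ, hw, c01_eq, D'.C01]
    rfl
  have h21 : ∀ t, slX (2 : Fin 3) 1 t ∈ S := fun t => by
    have e : slX (2 : Fin 3) 1 t = b23 wS * slX 1 2 (-t) * (b23 wS)⁻¹ := by
      rw [eq_mul_inv_iff_mul_eq]
      apply Subtype.ext
      show (slX (2 : Fin 3) 1 t).1 * (b23 wS).1 = (b23 wS).1 * (slX (1 : Fin 3) 2 (-t)).1
      rw [coe_b23, coe_wS, coe_slX (show (1 : Fin 3) ≠ 2 by decide), coe_slX (show (2 : Fin 3) ≠ 1 by decide)]
      ext a b
      fin_cases a <;> fin_cases b <;> simp [mul_apply, Fin.sum_univ_three, single_apply, one_apply]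
    rw [e]
    exact mul_mem (mul_mem hwS (h12 _)) (inv_mem hwS)
  have hS : S = ⊤ := CfsgLib.Classical.sl_eq_top _ fun i j hij c => by
    rw [← slX_eq hij]
    refine slX_mem_of_adj S 0 (fun p q _ _ hpq u => ?_) i j (Nat.zero_le _) (Nat.zero_le _) hij c
    fin_cases p <;> fin_cases q <;> simp at hpq
    · show f (D.ψ (slX 0 1 u)) = D'.ψ (slX 0 1 u)
      rw [← D.up, ← D'.up, ← hΦ]
      rfl
    · show f (D.ψ (slX 1 0 u)) = D'.ψ (slX 1 0 u)
      rw [← D.down, ← D'.down, ← hΦ]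
      rfl
    · exact h12 u
    · exact h21 u
  exact MonoidHom.ext fun g => (hS ▸ Subgroup.mem_top g : g ∈ S)

end CfsgLib.Lie.BoundedPres.OPlus
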