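import Cfsg.Agent.Lib.Lie.BoundedPres.SysPres
import Cfsg.Agent.Lib.Lie.BoundedPres.OmegaPlus.Families
import Cfsg.Agent.Lib.Lie.BoundedPres.OmegaPlus.Gen
import Cfsg.Agent.Lib.Lie.BoundedPres.OmegaPlus.Kernel
import Cfsg.Agent.Lib.Lie.BoundedPres.OmegaPlus.Model

/-!
# Systems of relations for `Ω⁺`: one generator and six relations more than for the special linear group
-/

set_option autoImplicit false

namespace CfsgLib.Lie.BoundedPres.OPlus

open Matrix CfsgLib.Char.SingleBond CfsgLib.Char.SingleBond.DDat CfsgLib.Lie.BoundedPres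

universe u

variable {F : Type u} [Field F] [Fintype F] {m : ℕ}

/-- one more generator and six more relations -/
theorem sys_omega_plus {k r : ℕ} (h : HasSysJ (Matrix.SpecialLinearGroup (Fin (m + 4)) F) k r 0) :
    HasSysJ (OQ F m) (k + 1) (r + 6) 0 := by
  classical
  obtain ⟨ι0, i0, g0, R0, V0, J0, hk, hr, hval, hcov, hhom, hJ, hV⟩ := h
  choose cw hcwV hcw using hcov
  obtain ⟨a, b, hab, habS⟩ := exists_blk_gens F m
  let ι := ι0 ⊕ Unit
  let inc : FreeGroup ι0 →* FreeGroup ι := FreeGroup.map Sum.inl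
  let v : Matrix.SpecialLinearGroup (Fin (m + 4)) F → FreeGroup ι := fun s => inc (cw s)
  let ω : FreeGroup ι := FreeGroup.of (Sum.inr ())
  let x1 : FreeGroup ι := (v (W F m))⁻¹ * (ω * v (slX 1 2 (-1)) * ω⁻¹) * v (W F m)
  let x2 : FreeGroup ι := (v (tIn (W F m)))⁻¹ * (ω * v (tIn (slX 1 2 (-1))) * ω⁻¹) * v (tIn (W F m))
  let six : List (FreeGroup ι) := [v a * ω * (v a)⁻¹ * ω⁻¹, v b * ω * (v b)⁻¹ * ω⁻¹,
    v a * x1 * (v a)⁻¹ * x1⁻¹, v b * x1 * (v b)⁻¹ * x1⁻¹, x1 * x2 * x1 * ω⁻¹,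
    ω * ω * (v (embSL f01 f01_inj (wS * wS)))⁻¹]
  let rels : Finset (FreeGroup ι) := (R0.map inc ++ six).toFinset
  have hcard : rels.card ≤ r + 6 := (List.toFinset_card_le _).trans (by simp [six]; omega)
  -- evaluation of the words
  have ev : ∀ {K : Type u} [Group K] (g : ι → K) (Φ : Matrix.SpecialLinearGroup (Fin (m + 4)) F →* K),
      (∀ s, FreeGroup.lift g (v s) = Φ s) →
      FreeGroup.lift g x1 = c01 Φ (g (Sum.inr ())) 1 ∧
      FreeGroup.lift g x2 = c01 (Φ.comp tIn) (g (Sum.inr ())) 1 := by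
    intro K _ g Φ hΦ
    simp only [x1, x2, ω, map_mul, map_inv, hΦ, FreeGroup.lift_apply_of, c01, c02, MonoidHom.comp_apply]
    exact ⟨trivial, trivial⟩
  -- the matrices
  let gM : ι → GL (DI m) F := Sum.elim (fun x => PhiU (g0 x)) fun _ => (model F m).wd
  have hinc : ∀ w, FreeGroup.lift gM (inc w) = (PhiU (m := m)) (FreeGroup.lift g0 w) := fun w => by
    simp only [inc]
    rw [lift_map]
    exact lift_comp_hom (PhiU (m := m)) g0 w
  have hvM : ∀ s, FreeGroup.lift gM (v s) = (model F m).Φ s := fun s => by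
    show FreeGroup.lift gM (inc (cw s)) = _
    rw [hinc, hcw]
    rfl
  have hMrel : ∀ w ∈ (↑rels : Set (FreeGroup ι)), FreeGroup.lift gM w = 1 := by
    obtain ⟨e1, e2⟩ := ev gM (model F m).Φ hvM
    have hgM : gM (Sum.inr ()) = (model F m).wd := rfl
    have hC : ∀ (x : GL (DI m) F), (∀ i j, Blk i j → ∀ t, Commute ((model F m).Φ (slX i j t)) x) →
        Commute ((model F m).Φ a) x ∧ Commute ((model F m).Φ b) x := by
      intro x hx
      have hS := habS ((Subgroup.centralizer ({x} : Set (GL (DI m) F))).comap (model F m).Φ) fun i j hij t =>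
        Subgroup.mem_centralizer_singleton_iff.2 (hx i j hij t)
      exact ⟨Subgroup.mem_centralizer_singleton_iff.1 hS.1, Subgroup.mem_centralizer_singleton_iff.1 hS.2⟩
    intro w hw
    rw [Finset.mem_coe, List.mem_toFinset, List.mem_append, List.mem_map] at hw
    rcases hw with ⟨w0, hw0, rfl⟩ | hw
    · rw [hinc, hval w0 hw0, map_one]
    · simp only [six, List.mem_cons, List.not_mem_nil, or_false] at hw
      rcases hw with rfl | rfl | rfl | rfl | rfl | rfl
      · simp only [map_mul, map_inv, hvM, ω, FreeGroup.lift_apply_of, hgM]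
        rw [(hC _ (dat_hw _)).1.eq, mul_inv_cancel_right, mul_inv_cancel]
      · simp only [map_mul, map_inv, hvM, ω, FreeGroup.lift_apply_of, hgM]
        rw [(hC _ (dat_hw _)).2.eq, mul_inv_cancel_right, mul_inv_cancel]
      · simp only [map_mul, map_inv, hvM, e1, hgM]
        rw [(hC _ (dat_hx _)).1.eq, mul_inv_cancel_right, mul_inv_cancel]
      · simp only [map_mul, map_inv, hvM, e1, hgM]
        rw [(hC _ (dat_hx _)).2.eq, mul_inv_cancel_right, mul_inv_cancel]
      · simp only [map_mul, map_inv, e1, e2, ω, FreeGroup.lift_apply_of, hgM]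
        rw [← dat_hR, mul_inv_cancel]
      · simp only [map_mul, map_inv, hvM, ω, FreeGroup.lift_apply_of, hgM]
        rw [model_hS, map_mul, map_mul, mul_inv_cancel]
  -- the presented group
  obtain ⟨P0, hP0⟩ : ∃ P0 : Set (FreeGroup ι), P0 = (↑rels : Set (FreeGroup ι)) := ⟨_, rfl⟩
  let gP : ι → PresentedGroup P0 := PresentedGroup.of
  have hPmk : ∀ w, FreeGroup.lift gP w = PresentedGroup.mk P0 w := fun w =>
    DFunLike.congr_fun (FreeGroup.ext_hom (FreeGroup.lift gP) (PresentedGroup.mk P0) fun i => by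
      simp [gP]; rfl) w
  have hPrel : ∀ w ∈ R0.map inc ++ six, FreeGroup.lift gP w = 1 := fun w hw => by
    rw [hPmk]
    exact PresentedGroup.one_of_mem (by rw [hP0, Finset.mem_coe, List.mem_toFinset]; exact hw)
  obtain ⟨φ, hφ⟩ := hhom (PresentedGroup P0) (fun x => gP (Sum.inl x)) fun w hw => by
    rw [← lift_map]; exact hPrel _ (List.mem_append_left _ (List.mem_map_of_mem hw))
  let up : PresentedGroup P0 →* ULift.{u} (PresentedGroup P0) := MulEquiv.ulift.symm.toMonoidHom
  let Φ : Matrix.SpecialLinearGroup (Fin (m + 4)) F →* ULift.{u} (PresentedGroup P0) := up.comp φ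
  let gU : ι → ULift.{u} (PresentedGroup P0) := fun x => up (gP x)
  have hU : ∀ w, FreeGroup.lift gU w = up (FreeGroup.lift gP w) := fun w => lift_comp_hom up gP w
  have hΦv : ∀ w ∈ V0, Φ (FreeGroup.lift g0 w) = FreeGroup.lift gU (inc w) := fun w hw => by
    rw [hU]
    simp only [inc]
    rw [lift_map]
    exact congrArg up (hφ w hw)
  have hvU : ∀ s, FreeGroup.lift gU (v s) = Φ s := fun s => by
    show FreeGroup.lift gU (inc (cw s)) = _
    rw [← hΦv _ (hcwV s), hcw]
  obtain ⟨f1, f2⟩ := ev gU Φ hvU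
  obtain ⟨wU, hwU⟩ : ∃ wU, wU = gU (Sum.inr ()) := ⟨_, rfl⟩
  rw [← hwU] at f1 f2
  have hrU : ∀ w ∈ six, FreeGroup.lift gU w = 1 := fun w hw => by
    rw [hU, hPrel w (List.mem_append_right _ hw), map_one]
  simp only [six, List.mem_cons, List.not_mem_nil, or_false, forall_eq_or_imp, forall_eq, map_mul, map_inv,
    hvU, f1, f2, ω, FreeGroup.lift_apply_of, ← hwU, mul_inv_eq_one] at hrU
  obtain ⟨q1, q2, q3, q4, q5, q6⟩ := hrU
  have hcomm : ∀ x, Φ a * x = x * Φ a → Φ b * x = x * Φ b → ∀ i j, Blk i j → ∀ t, Commute (Φ (slX i j t)) x := by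
    intro x ha hb i j hij t
    have hle : Subgroup.closure ({a, b} : Set _) ≤
        (Subgroup.centralizer ({x} : Set (ULift.{u} (PresentedGroup P0)))).comap Φ := by
      rw [Subgroup.closure_le]
      rintro y (rfl | rfl)
      · exact Subgroup.mem_centralizer_singleton_iff.2 ha
      · exact Subgroup.mem_centralizer_singleton_iff.2 hb
    exact Subgroup.mem_centralizer_singleton_iff.1 (hle (hab i j hij t))
  let E : Ext (ULift.{u} (PresentedGroup P0)) F m :=
    { Φ := Φ
      w := wU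
      hw := hcomm wU (mul_inv_eq_iff_eq_mul.1 q1) (mul_inv_eq_iff_eq_mul.1 q2)
      hx := hcomm _ (mul_inv_eq_iff_eq_mul.1 q3) (mul_inv_eq_iff_eq_mul.1 q4)
      hR := q5.symm }
  obtain ⟨D, hDΦ, hDw, hDX⟩ := E.exists_dat
  -- the map to the matrices
  have hPM : ∀ w ∈ P0, FreeGroup.lift gM w = 1 := by rw [hP0]; exact hMrel
  let π0 : PresentedGroup P0 →* GL (DI m) F := PresentedGroup.toGroup hPM
  let π : ULift.{u} (PresentedGroup P0) →* GL (DI m) F := π0.comp MulEquiv.ulift.toMonoidHom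
  have hπ : ∀ x, π (gU x) = gM x := fun x => PresentedGroup.toGroup.of hPM
  have hπw : ∀ w, π (FreeGroup.lift gU w) = FreeGroup.lift gM w := fun w => by
    rw [← lift_comp_hom π gU w, show (fun x => π (gU x)) = gM from funext hπ]
  have hπΦ : π.comp D.Φ = (model F m).Φ := MonoidHom.ext fun s => by
    rw [MonoidHom.comp_apply, hDΦ]
    show π (Φ s) = _
    rw [← hvU s, hπw, hvM]
  have hπd : π D.wd = (model F m).wd := by
    rw [hDw]
    show π wU = _
    rw [hwU, hπ]
    rfl
  have hπψ : π.comp D.ψ = (model F m).ψ :=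
    psi_agree D π (model F m) hπΦ hπd fun t => by
      rw [hDX, hDΦ, hDw]
  have M : IsModel D π :=
    ⟨fun s => DFunLike.congr_fun hπΦ s, fun s => DFunLike.congr_fun hπψ s⟩
  have hgen : D.Φ.range ⊔ D.ψ.range = ⊤ := by
    have hJ0 : J0 = ∅ := Finset.card_eq_zero.1 (Nat.le_zero.1 hJ)
    have hall : ∀ x : ι, gU x ∈ D.Φ.range ⊔ D.ψ.range := by
      rintro (x | x)
      · refine Subgroup.mem_sup_left ⟨g0 x, ?_⟩
        rw [hDΦ]
        show Φ (g0 x) = _
        have := hΦv (FreeGroup.of x) (hV x (by simp [hJ0]))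
        simpa [inc, lift_map] using this
      · exact Subgroup.mem_sup_right ⟨b23 wS, hDw.trans hwU⟩
    refine eq_top_iff.2 fun y _ => ?_
    obtain ⟨w, hw⟩ := PresentedGroup.mk_surjective P0 y.down
    have hy : y = FreeGroup.lift gU w := by
      rw [hU, hPmk, hw]
      rfl
    rw [hy]
    have hle : (FreeGroup.lift gU).range ≤ D.Φ.range ⊔ D.ψ.range := by
      rw [FreeGroup.range_lift_eq_closure, Subgroup.closure_le]
      rintro _ ⟨x, rfl⟩
      exact hall x
    exact hle ⟨w, rfl⟩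
  have hS : D.wd * D.wd = D.Φ (embSL f01 f01_inj (wS * wS)) := by
    rw [hDw, hDΦ, map_mul, map_mul]; exact q6
  obtain ⟨θ, hθ, -⟩ := exists_iso M hgen hS
  subst hP0
  have hs := HasSysJ.of_presentation rels (MulEquiv.ulift.symm.trans (MulEquiv.ofBijective θ hθ))
  rw [show Fintype.card ι = k + 1 by simp [ι, hk]] at hs
  exact hs.mono hcard le_rfl

/-- the centre of `Ω⁺` is cyclic -/
theorem center_cyclic :
    ∃ z : OQ F m, (QuotientGroup.mk' (Subgroup.center (OQ F m))).ker = Subgroup.zpowers z := by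
  classical
  have hQ : Cfsg.Geo.IsNondegenerateQuadraticForm (Cfsg.quadFormPlus (m + 4) F) :=
    CfsgLib.Perm.Trans.Quad.quadFormPlus_nd
  have hn : 5 ≤ Fintype.card (Fin (m + 4) ⊕ Fin (m + 4)) := by simp; omega
  have hc : Nat.card (Subgroup.center (OQ F m)) = 1 ∨ Nat.card (Subgroup.center (OQ F m)) = 2 := by
    by_cases h2 : (2 : F) = 0
    · exact Or.inl (CfsgLib.Orth.card_center_omega_two hQ hn h2)
    · by_cases hex : ∃ g : ↥(Cfsg.isometryGroup F (Cfsg.quadFormPlus (m + 4) F)),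
          g ∈ Cfsg.Omega F (Cfsg.quadFormPlus (m + 4) F) ∧
            ((g : GL (DI m) F) : Matrix (DI m) (DI m) F) = -1
      · exact Or.inr (CfsgLib.Orth.card_center_omega_of_mem hQ hn h2 hex)
      · exact Or.inl (CfsgLib.Orth.card_center_omega_of_not hQ hn hex)
  haveI : IsCyclic ↥(Subgroup.center (OQ F m)) := by
    rcases hc with h | h
    · haveI := (Nat.card_eq_one_iff_unique.1 h).1
      exact isCyclic_of_subsingleton
    · haveI : Fact (Nat.Prime 2) := ⟨Nat.prime_two⟩
      exact isCyclic_of_prime_card h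
  obtain ⟨z, hz⟩ := IsCyclic.exists_generator (α := ↥(Subgroup.center (OQ F m)))
  refine ⟨z.1, ?_⟩
  rw [QuotientGroup.ker_mk']
  refine le_antisymm (fun x hx => ?_) ((Subgroup.zpowers_le).2 z.2)
  obtain ⟨n, hn⟩ := Subgroup.mem_zpowers_iff.1 (hz ⟨x, hx⟩)
  exact ⟨n, congrArg Subtype.val hn⟩

/-- the systems for the central quotient -/
theorem sys_pomega_plus {k r : ℕ} (h : HasSysJ (OQ F m) k r 0) :
    HasSysJ (Cfsg.POmega F (Cfsg.quadFormPlus (m + 4) F)) k (r + 1) 0 := by
  obtain ⟨z, hz⟩ := center_cyclic (F := F) (m := m)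
  exact h.quotient (QuotientGroup.mk' _) (QuotientGroup.mk'_surjective _) z hz

end CfsgLib.Lie.BoundedPres.OPlus
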