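import Cfsg.Agent.Lib.Char.SingleBond.TypeDParts.Parabolic

/-!
# Elements of `SL_n` moving coordinate vectors along lines
-/

set_option autoImplicit false

namespace CfsgLib.Lie.BoundedPres.OPlus

open Matrix CfsgLib.Char.SingleBond

variable {F : Type*} [Field F] {k : ℕ}

/-- `g` takes the `i`-th coordinate vector to `c` times the `j`-th, its transpose inverse to `c⁻¹` times it -/
structure Mv (g : Matrix.SpecialLinearGroup (Fin k) F) (i j : Fin k) (c : F) : Prop where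
  ne : c ≠ 0
  col : g.1 *ᵥ Pi.single i 1 = c • Pi.single j (1 : F)
  row : (tIn g).1 *ᵥ Pi.single i 1 = c⁻¹ • Pi.single j (1 : F)

theorem Mv.congr {g : Matrix.SpecialLinearGroup (Fin k) F} {i j j' : Fin k} {c c' : F} (h : Mv g i j c)
    (hj : j = j') (hc : c = c') : Mv g i j' c' := by
  subst hj; subst hc; exact h

theorem Mv.mul {g h : Matrix.SpecialLinearGroup (Fin k) F} {i j l : Fin k} {c d : F} (hg : Mv g j l d)
    (hh : Mv h i j c) : Mv (g * h) i l (c * d) := by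
  refine ⟨mul_ne_zero hh.ne hg.ne, ?_, ?_⟩
  · show (g.1 * h.1) *ᵥ _ = _
    rw [← mulVec_mulVec, hh.col, mulVec_smul, hg.col, smul_smul]
  · rw [map_mul]
    show ((tIn g).1 * (tIn h).1) *ᵥ _ = _
    rw [← mulVec_mulVec, hh.row, mulVec_smul, hg.row, smul_smul, mul_inv]

theorem Mv.inv {g : Matrix.SpecialLinearGroup (Fin k) F} {i j : Fin k} {c : F} (h : Mv g i j c) :
    Mv g⁻¹ j i c⁻¹ := by
  have key : ∀ (A : Matrix.SpecialLinearGroup (Fin k) F) (a : F), a ≠ 0 →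
      A.1 *ᵥ Pi.single i 1 = a • Pi.single j (1 : F) → A⁻¹.1 *ᵥ Pi.single j 1 = a⁻¹ • Pi.single i (1 : F) := by
    intro A a ha e
    have h1 : A⁻¹.1 *ᵥ (A.1 *ᵥ Pi.single i 1) = Pi.single i (1 : F) := by
      rw [mulVec_mulVec, show A⁻¹.1 * A.1 = 1 from congrArg Subtype.val (inv_mul_cancel A), one_mulVec]
    rw [e, mulVec_smul] at h1
    rw [eq_inv_smul_iff₀ ha]
    exact h1
  refine ⟨inv_ne_zero h.ne, key g c h.ne h.col, ?_⟩
  rw [map_inv]
  exact key (tIn g) c⁻¹ (inv_ne_zero h.ne) h.row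

theorem Mv.trans {g : Matrix.SpecialLinearGroup (Fin k) F} {i j : Fin k} {c : F} (h : Mv g i j c) :
    Mv (tIn g) i j c⁻¹ :=
  ⟨inv_ne_zero h.ne, h.row, by rw [tIn_tIn, inv_inv]; exact h.col⟩

/-- conjugation of a transvection -/
theorem Mv.conj {g : Matrix.SpecialLinearGroup (Fin k) F} {p q p' q' : Fin k} {a b : F} (hp : Mv g p p' a)
    (hq : Mv g q q' b) (hpq : p ≠ q) (hpq' : p' ≠ q') (t : F) :
    g * slX p q t * g⁻¹ = slX p' q' (a * b⁻¹ * t) :=
  slX_conj_scale hpq hpq' (inv_ne_zero hq.ne) hp.col hq.row t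

variable {m : ℕ}

theorem Mv.wS_fst (f : Fin 2 → Fin k) (hf : Function.Injective f) :
    Mv (embSL f hf (wS : S2 F)) (f 0) (f 1) (-1) := by
  refine ⟨neg_ne_zero.2 one_ne_zero, ?_, ?_⟩
  · rw [embSL_mulVec, Fin.sum_univ_two, coe_wS]
    simp
  · rw [embSL_tIn, tIn_wS, embSL_mulVec, Fin.sum_univ_two, coe_wS]
    simp

theorem Mv.wS_snd (f : Fin 2 → Fin k) (hf : Function.Injective f) :
    Mv (embSL f hf (wS : S2 F)) (f 1) (f 0) 1 := by
  refine ⟨one_ne_zero, ?_, ?_⟩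
  · rw [embSL_mulVec, Fin.sum_univ_two, coe_wS]
    simp
  · rw [embSL_tIn, tIn_wS, embSL_mulVec, Fin.sum_univ_two, coe_wS]
    simp

theorem Mv.emb_fix {l : ℕ} (f : Fin l → Fin k) (hf : Function.Injective f)
    (A : Matrix.SpecialLinearGroup (Fin l) F) {x : Fin k} (hx : ∀ a, x ≠ f a) : Mv (embSL f hf A) x x 1 := by
  refine ⟨one_ne_zero, ?_, ?_⟩
  · rw [one_smul, embSL_fix f hf A hx]
  · rw [embSL_tIn, inv_one, one_smul, embSL_fix f hf _ hx]

theorem Mv.dg_fst (f : Fin 2 → Fin k) (hf : Function.Injective f) (s : Fˣ) :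
    Mv (embSL f hf (dg s)) (f 0) (f 0) (s : F) := by
  refine ⟨s.ne_zero, ?_, ?_⟩
  · rw [embSL_mulVec, Fin.sum_univ_two, coe_dg]
    simp
  · rw [embSL_tIn, tIn_dg, embSL_mulVec, Fin.sum_univ_two, coe_dg]
    simp

theorem Mv.dg_snd (f : Fin 2 → Fin k) (hf : Function.Injective f) (s : Fˣ) :
    Mv (embSL f hf (dg s)) (f 1) (f 1) ((s : F)⁻¹) := by
  refine ⟨inv_ne_zero s.ne_zero, ?_, ?_⟩
  · rw [embSL_mulVec, Fin.sum_univ_two, coe_dg]
    simp
  · rw [embSL_tIn, tIn_dg, embSL_mulVec, Fin.sum_univ_two, coe_dg]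
    simp

/-- every torus element of two coordinates scales every coordinate vector -/
theorem Mv.dg_all (f : Fin 2 → Fin k) (hf : Function.Injective f) (s : Fˣ) (x : Fin k) :
    ∃ c, Mv (embSL f hf (dg s)) x x c := by
  by_cases h : ∃ a, x = f a
  · obtain ⟨a, rfl⟩ := h
    fin_cases a
    exacts [⟨_, Mv.dg_fst f hf s⟩, ⟨_, Mv.dg_snd f hf s⟩]
  · push Not at h
    exact ⟨1, Mv.emb_fix f hf _ h⟩

/-- the injection of the third and fourth coordinates -/
def f23 : Fin 2 → Fin (m + 4) := ![2, 3]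
/-- the injection of the second and fourth coordinates -/
def f13 : Fin 2 → Fin (m + 4) := ![1, 3]

theorem f23_inj : Function.Injective (f23 : Fin 2 → Fin (m + 4)) := by
  intro a b h; fin_cases a <;> fin_cases b <;> simp [f23, ne23, ne23.symm] at h ⊢
theorem f13_inj : Function.Injective (f13 : Fin 2 → Fin (m + 4)) := by
  intro a b h; fin_cases a <;> fin_cases b <;> simp [f13, ne13, ne13.symm] at h ⊢

end CfsgLib.Lie.BoundedPres.OPlus
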